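import Groth.Agent.WeilCohLib.Geometry
import Groth.Prelude.Def_W4c1zetahwZeta
import Mathlib.FieldTheory.Finite.Basic
import Mathlib.FieldTheory.PrimitiveElement
import Mathlib.FieldTheory.Perfect

/-!
# Points fixed by a power of Frobenius are counted by `Zeta.nPts`
-/

set_option autoImplicit false
set_option backward.isDefEq.respectTransparency.types false
set_option linter.style.haveILetI false

universe u

open CategoryTheory AlgebraicGeometry

namespace Groth.Agent.WeilCohLib

theorem surjective_of_isClosedImmersion_Spec {R S : CommRingCat.{u}} (e : R ⟶ S)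
    [h : IsClosedImmersion (Spec.map e)] : Function.Surjective e.hom := fun z => by
  obtain ⟨y, hy⟩ := (IsClosedImmersion.isAffine_surjective_of_isAffine (Spec.map e)).2 ((Scheme.ΓSpecIso S).inv z)
  refine ⟨(Scheme.ΓSpecIso R).hom y, ?_⟩
  have h1 := ConcreteCategory.congr_hom (Scheme.ΓSpecIso_naturality e) y
  simp only [CommRingCat.hom_comp, RingHom.comp_apply] at h1
  rw [← h1, hy]
  exact Iso.inv_hom_id_apply (Scheme.ΓSpecIso S) z

/-- embeddings of `L` into an algebraically closed `k` fixed by the `q^n`-power -/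
theorem card_fixed_algHom {k₀ : Type u} [Field k₀] [Finite k₀] (L k : Type u) [Field L] [Algebra k₀ L]
    [Field k] [IsAlgClosed k] [Algebra k₀ k] (n : ℕ) (hn : 0 < n) :
    Nat.card {σ : L →ₐ[k₀] k // ∀ a, σ a ^ (Nat.card k₀) ^ n = σ a} =
      if Module.finrank k₀ L ∣ n then Module.finrank k₀ L else 0 := by
  classical
  haveI := Fintype.ofFinite k₀
  rw [Nat.card_eq_fintype_card (α := k₀)]
  set q := Fintype.card k₀ with hq
  have hq1 : 1 < q := Fintype.one_lt_card
  split_ifs with h
  · haveI : FiniteDimensional k₀ L :=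
      Module.finite_of_finrank_pos (Nat.pos_of_dvd_of_pos h hn)
    haveI : Finite L := Module.finite_of_finite k₀
    haveI := Fintype.ofFinite L
    haveI : Algebra.IsSeparable k₀ L := inferInstance
    have hall : ∀ σ : L →ₐ[k₀] k, ∀ a, σ a ^ q ^ n = σ a := fun σ a => by
      obtain ⟨c, hc⟩ := h
      rw [← map_pow, hc, pow_mul, ← Module.card_eq_pow_finrank (K := k₀) (V := L), FiniteField.pow_card_pow]
    rw [Nat.card_congr (Equiv.subtypeUnivEquiv hall), Nat.card_eq_fintype_card, AlgHom.card]
  · refine Nat.card_eq_zero.2 (Or.inl ⟨fun ⟨σ, hσ⟩ => h ?_⟩)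
    have ha : ∀ a : L, a ^ q ^ n = a := fun a =>
      σ.toRingHom.injective (show σ (a ^ q ^ n) = σ a by rw [map_pow, hσ])
    haveI : Finite L := by
      refine Set.finite_univ_iff.1 (Set.Finite.subset
        (Polynomial.finite_setOfPred_isRoot (FiniteField.X_pow_card_pow_sub_X_ne_zero L hn.ne' hq1)) fun a _ => ?_)
      simp [Polynomial.IsRoot, ha a]
    haveI : FiniteDimensional k₀ L := Module.Finite.of_finite
    rw [← FiniteField.orderOf_frobeniusAlgHom k₀ L]
    refine orderOf_dvd_of_pow_eq_one (AlgHom.ext fun a => ?_)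
    rw [AlgHom.coe_pow, FiniteField.coe_frobeniusAlgHom, pow_iterate]
    exact ha a

theorem finrank_resHom {k₀ : Type u} [Field k₀] {X : Scheme.{u}} (f : X ⟶ Spec (CommRingCat.of k₀)) (x : X) :
    @Module.finrank k₀ (X.residueField x) _ _
      (Spec.preimage (X.fromSpecResidueField x ≫ f)).hom.toAlgebra.toModule = EGA4loc.residueDegree f x := by
  let S := Spec (CommRingCat.of k₀)
  let e : CommRingCat.of k₀ ⟶ S.residueField (f x) := Spec.preimage (S.fromSpecResidueField (f x))
  have he : Function.Bijective e.hom := by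
    refine ⟨e.hom.injective, ?_⟩
    haveI : IsClosedImmersion (S.fromSpecResidueField (f x)) :=
      isClosed_singleton_iff_isClosedImmersion.1 (by
        rw [show ({f x} : Set S) = Set.univ from
          Set.eq_univ_of_forall fun z => Subsingleton.elim (α := PrimeSpectrum k₀) z (f x)]
        exact isClosed_univ)
    have h1 : IsClosedImmersion (Spec.map e) := by rw [Spec.map_preimage]; infer_instance
    exact surjective_of_isClosedImmersion_Spec e
  have hcomp : Spec.preimage (X.fromSpecResidueField x ≫ f) = e ≫ f.residueFieldMap x := by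
    refine Spec.map_injective ?_
    rw [Spec.map_preimage, Spec.map_comp, Spec.map_preimage, Scheme.Hom.SpecMap_residueFieldMap_fromSpecResidueField]
  rw [hcomp]
  letI : Algebra k₀ (X.residueField x) := (e ≫ f.residueFieldMap x).hom.toAlgebra
  unfold EGA4loc.residueDegree
  letI := (f.residueFieldMap x).hom.toAlgebra
  exact Algebra.finrank_eq_of_equiv_equiv (RingEquiv.ofBijective e.hom he) (RingEquiv.refl _) (by ext a; rfl)

/-- the geometric points of `X` fixed by a power of Frobenius -/
theorem card_fixed_points {k₀ : Type u} [Field k₀] [Finite k₀] {k : Type u} [Field k] [IsAlgClosed k] [Algebra k₀ k]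
    {X : Scheme.{u}} (f : X ⟶ Spec (CommRingCat.of k₀)) [LocallyOfFiniteType f] (n : ℕ) (hn : 0 < n)
    (φ : k →+* k) (hφ : ∀ a, φ a = a ^ (Nat.card k₀) ^ n)
    (hfin : Finite {g : Spec (CommRingCat.of k) ⟶ X // g ≫ f = Spec.map (CommRingCat.ofHom (algebraMap k₀ k)) ∧
      Spec.map (CommRingCat.ofHom φ) ≫ g = g}) :
    Nat.card {g : Spec (CommRingCat.of k) ⟶ X // g ≫ f = Spec.map (CommRingCat.ofHom (algebraMap k₀ k)) ∧
      Spec.map (CommRingCat.ofHom φ) ≫ g = g} = Zeta.nPts f n := by
  classical
  let s : ∀ x : X, CommRingCat.of k₀ ⟶ X.residueField x := fun x => Spec.preimage (X.fromSpecResidueField x ≫ f)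
  let P : (x : X) → (X.residueField x ⟶ CommRingCat.of k) → Prop := fun x σ =>
    s x ≫ σ = CommRingCat.ofHom (algebraMap k₀ k) ∧ σ ≫ CommRingCat.ofHom φ = σ
  let E : {g : Spec (CommRingCat.of k) ⟶ X // g ≫ f = Spec.map (CommRingCat.ofHom (algebraMap k₀ k)) ∧
      Spec.map (CommRingCat.ofHom φ) ≫ g = g} ≃ Σ x : X, {σ : X.residueField x ⟶ CommRingCat.of k // P x σ} :=
    ((Scheme.SpecToEquivOfField k X).symm.subtypeEquiv
      (p := fun xσ : Σ x : X, X.residueField x ⟶ CommRingCat.of k => P xσ.1 xσ.2) fun ⟨x, σ⟩ => by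
      show P x σ ↔ (Spec.map σ ≫ X.fromSpecResidueField x) ≫ f = _ ∧
        Spec.map (CommRingCat.ofHom φ) ≫ (Spec.map σ ≫ X.fromSpecResidueField x) = Spec.map σ ≫ X.fromSpecResidueField x
      refine and_congr ?_ ?_
      · rw [← Spec.map_inj, Spec.map_comp, Category.assoc]
        simp only [s, Spec.map_preimage]
      · rw [← Category.assoc, cancel_mono, ← Spec.map_comp, Spec.map_inj]).symm.trans
      { toFun := fun a => ⟨a.1.1, a.1.2, a.2⟩
        invFun := fun a => ⟨⟨a.1, a.2.1⟩, a.2.2⟩
        left_inv := fun _ => rfl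
        right_inv := fun _ => rfl }
  have hcard : ∀ x, Nat.card {σ : X.residueField x ⟶ CommRingCat.of k // P x σ} =
      if EGA4loc.residueDegree f x ∣ n then EGA4loc.residueDegree f x else 0 := fun x => by
    letI : Algebra k₀ (X.residueField x) := (s x).hom.toAlgebra
    rw [← finrank_resHom, ← card_fixed_algHom (k₀ := k₀) (X.residueField x) k n hn]
    exact Nat.card_congr
      { toFun := fun σ => ⟨⟨σ.1.hom, fun c => congrArg (fun m : CommRingCat.of k₀ ⟶ CommRingCat.of k => m.hom c) σ.2.1⟩,
          fun a => (hφ _).symm.trans (congrArg (fun m : X.residueField x ⟶ CommRingCat.of k => m.hom a) σ.2.2)⟩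
        invFun := fun σ => ⟨CommRingCat.ofHom σ.1.toRingHom,
          CommRingCat.hom_ext (RingHom.ext σ.1.commutes), CommRingCat.hom_ext (RingHom.ext fun a => (hφ _).trans (σ.2 a))⟩
        left_inv := fun _ => rfl
        right_inv := fun _ => rfl }
  have hclosed : ∀ x, EGA4loc.residueDegree f x ∣ n → IsClosed ({x} : Set X) := fun x hx => by
    letI := (f.residueFieldMap x).hom.toAlgebra
    have hfinite : (f.residueFieldMap x).hom.Finite :=
      Module.finite_of_finrank_pos (Nat.pos_of_dvd_of_pos hx hn)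
    have h0 : DimTheory.resTrdeg f x = 0 := by
      letI : Algebra k₀ (X.residueField x) := (DimTheory.resHom f x).toAlgebra
      haveI : Finite ((Spec (CommRingCat.of k₀)).residueField (f x)) := by
        refine Finite.of_surjective (Spec.preimage ((Spec (CommRingCat.of k₀)).fromSpecResidueField (f x))).hom ?_
        haveI : IsClosedImmersion ((Spec (CommRingCat.of k₀)).fromSpecResidueField (f x)) :=
          isClosed_singleton_iff_isClosedImmersion.1 (by
            rw [show ({f x} : Set (Spec (CommRingCat.of k₀))) = Set.univ from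
              Set.eq_univ_of_forall fun z => Subsingleton.elim (α := PrimeSpectrum k₀) z (f x)]
            exact isClosed_univ)
        exact surjective_of_isClosedImmersion_Spec _ (h := by rw [Spec.map_preimage]; infer_instance)
      haveI : Module.Finite ((Spec (CommRingCat.of k₀)).residueField (f x)) (X.residueField x) := hfinite
      haveI : Finite (X.residueField x) := Module.finite_of_finite ((Spec (CommRingCat.of k₀)).residueField (f x))
      haveI : Module.Finite k₀ (X.residueField x) := Module.Finite.of_finite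
      exact trdeg_eq_zero
    obtain ⟨m, hm, hh⟩ := DimTheory.exists_height_eq f x
    rw [h0] at hm
    have hm0 : m = 0 := by exact_mod_cast hm.symm
    subst hm0
    refine isClosed_of_closure_subset fun y hy => ?_
    have h1 : x ⤳ y := specializes_iff_mem_closure.2 hy
    exact (Specializes.antisymm (Order.height_eq_zero.1 hh (show y ≤ x from h1)) h1).eq.symm ▸ rfl
  haveI : Finite (Σ x : X, {σ : X.residueField x ⟶ CommRingCat.of k // P x σ}) := Finite.of_equiv _ E
  have hSfin : {x : X | EGA4loc.residueDegree f x ∣ n}.Finite := by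
    refine (Set.finite_range fun a : Σ x : X, {σ : X.residueField x ⟶ CommRingCat.of k // P x σ} => a.1).subset
      fun x hx => ?_
    have : Nonempty {σ : X.residueField x ⟶ CommRingCat.of k // P x σ} := (Nat.card_pos_iff.1 (by
      rw [hcard, if_pos (show EGA4loc.residueDegree f x ∣ n from hx)]; exact Nat.pos_of_dvd_of_pos hx hn)).1
    exact ⟨⟨x, Classical.arbitrary _⟩, rfl⟩
  let E' : (Σ x : X, {σ : X.residueField x ⟶ CommRingCat.of k // P x σ}) ≃
      Σ x : ↥hSfin.toFinset, {σ : X.residueField x.1 ⟶ CommRingCat.of k // P x.1 σ} :=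
    { toFun := fun a => ⟨⟨a.1, hSfin.mem_toFinset.2 (by
        by_contra hx
        haveI : Finite {σ : X.residueField a.1 ⟶ CommRingCat.of k // P a.1 σ} :=
          Finite.of_injective (fun σ => (⟨a.1, σ⟩ : Σ x : X, {σ : X.residueField x ⟶ CommRingCat.of k // P x σ}))
            fun _ _ h => eq_of_heq (Sigma.mk.inj_iff.1 h).2
        have := hcard a.1
        rw [if_neg (show ¬ EGA4loc.residueDegree f a.1 ∣ n from hx)] at this
        exact (Nat.card_pos_iff.2 ⟨⟨a.2⟩, inferInstance⟩).ne' this)⟩, a.2⟩
      invFun := fun a => ⟨a.1.1, a.2⟩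
      left_inv := fun _ => rfl
      right_inv := fun _ => rfl }
  haveI : ∀ x : ↥hSfin.toFinset, Finite {σ : X.residueField x.1 ⟶ CommRingCat.of k // P x.1 σ} := fun x =>
    Finite.of_injective (fun σ => (⟨x.1, σ⟩ : Σ x : X, {σ : X.residueField x ⟶ CommRingCat.of k // P x σ}))
      fun _ _ h => eq_of_heq (Sigma.mk.inj_iff.1 h).2
  rw [Nat.card_congr (E.trans E'), Nat.card_sigma]
  simp only [hcard]
  rw [Finset.sum_coe_sort hSfin.toFinset
      (fun x => if EGA4loc.residueDegree f x ∣ n then EGA4loc.residueDegree f x else 0),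
    Finset.sum_congr rfl fun x hx => if_pos (show EGA4loc.residueDegree f x ∣ n from hSfin.mem_toFinset.1 hx),
    ← Finset.sum_fiberwise_of_maps_to (t := n.divisors) (g := fun x => EGA4loc.residueDegree f x)
      (fun x hx => Nat.mem_divisors.2 ⟨hSfin.mem_toFinset.1 hx, hn.ne'⟩), Zeta.nPts]
  refine Finset.sum_congr rfl fun a ha => ?_
  rw [Finset.sum_congr rfl fun x hx => (Finset.mem_filter.1 hx).2, Finset.sum_const, smul_eq_mul, mul_comm,
    Zeta.degCount, ← Nat.card_eq_finsetCard]
  congr 1
  refine Nat.card_congr (Equiv.subtypeEquivRight fun x => ?_)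
  simp only [Finset.mem_filter, Set.Finite.mem_toFinset, Set.mem_setOf_eq]
  exact ⟨fun h => ⟨hclosed x h.1, h.2⟩, fun h => ⟨h.2 ▸ (Nat.mem_divisors.1 ha).1, h.2⟩⟩

end Groth.Agent.WeilCohLib
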