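import Groth.Agent.WeilCohLib.Graph
import Groth.Prelude.Def_ChowOps

/-!
# Classes of cycles, push-forward of cycles, degree
-/

set_option autoImplicit false
set_option backward.isDefEq.respectTransparency.types false
set_option linter.style.haveILetI false

universe u v w

open CategoryTheory AlgebraicGeometry

namespace Groth.Agent.WeilCohLib

variable {k : Type u} [Field k] {K : Type v} [Field K]
variable {T : WeilCoh.TheoryOn.{u, v, w} k (WeilCoh.IsVar k) K}

theorem map_apply {X Y : Scheme.{u}} (f : X ⟶ Y) [QuasiCompact f] (wx : X → ℤ) (wy : Y → ℤ)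
    (α : AlgebraicCycle X ℤ) (s : Finset X) (hs : ∀ x, α x ≠ 0 → x ∈ s) (z : Y) [DecidableEq Y] :
    AlgebraicCycle.map f wx wy α z =
      ∑ x ∈ s with f x = z, α x * (AlgebraicCycle.mapCoeff f wx wy x : ℤ) := by
  show (∑ᶠ x ∈ ((f : X → Y) ⁻¹' {z}), α x * _) = _
  rw [finsum_mem_eq_sum_of_inter_support_eq]
  ext x
  simp only [Set.mem_inter_iff, Set.mem_preimage, Set.mem_singleton_iff, Function.mem_support,
    Finset.coe_filter, Set.mem_setOf_eq]
  exact ⟨fun h => ⟨⟨hs x (left_ne_zero_of_mul h.2), h.1⟩, h.2⟩, fun h => ⟨h.1.2, h.2⟩⟩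

theorem tr_clCyc_map {X Y : WeilCoh.Var k} (f : X ⟶ Y) [QuasiCompact (WeilCoh.sm f)]
    (δX : X.obj.left → ℤ) (hδX : Cyc.DeltaCompat X.obj.hom δX (fun _ => 0))
    (δY : Y.obj.left → ℤ) (hδY : Cyc.DeltaCompat Y.obj.hom δY (fun _ => 0))
    (α : AlgebraicCycle X.obj.left ℤ) (b : T.H Y) :
    T.tr Y (T.clCyc Y (AlgebraicCycle.map (WeilCoh.sm f) δX δY α) * b) =
      T.tr X (T.clCyc X α * T.pull f b) := by
  classical
  let s := (support_finite α).toFinset
  have hs : ∀ x, α x ≠ 0 → x ∈ s := fun x hx => (Set.Finite.mem_toFinset _).2 hx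
  have hm : ∀ x, ((AlgebraicCycle.mapCoeff (WeilCoh.sm f) δX δY x : ℕ) : K) * T.tr Y (T.cl Y (WeilCoh.sm f x) * b) =
      T.tr X (T.cl X x * T.pull f b) := fun x => by
    rw [tr_cl_mul]
    unfold AlgebraicCycle.mapCoeff
    split_ifs with h
    · rfl
    · by_cases hd : (WeilCoh.sm f).residueDegree x = 0
      · rw [hd]
      · refine absurd ?_ h
        rw [delta_eq_pdim hδX, delta_eq_pdim hδY]
        exact_mod_cast (pdim_eq_of_residueDegree_ne_zero f x hd).symm
  rw [clCyc_eq_sum (T := T) α s hs, clCyc_eq_sum (T := T) _ (s.image (WeilCoh.sm f)) (fun z hz => ?_)]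
  · simp only [Finset.sum_mul, map_sum, smul_mul_assoc, map_smul, smul_eq_mul]
    simp only [← hm]
    rw [← Finset.sum_fiberwise_of_maps_to (s := s) (t := s.image (WeilCoh.sm f))
      (g := fun x => WeilCoh.sm f x) (fun x hx => Finset.mem_image_of_mem _ hx)]
    refine Finset.sum_congr rfl fun z _ => ?_
    rw [map_apply _ _ _ α s hs z, Int.cast_sum, Finset.sum_mul]
    refine Finset.sum_congr rfl fun x hx => ?_
    rw [(Finset.mem_filter.1 hx).2]
    push_cast
    ring
  · rw [map_apply _ _ _ α s hs z] at hz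
    obtain ⟨x, hx, -⟩ := Finset.exists_ne_zero_of_sum_ne_zero hz
    exact Finset.mem_image.2 ⟨x, (Finset.mem_filter.1 hx).1, (Finset.mem_filter.1 hx).2⟩

theorem isClosed_of_pdim_eq_zero {X : WeilCoh.Var k} {x : X.obj.left} (h : WeilCoh.pdim X.obj.left x = 0) :
    IsClosed ({x} : Set X.obj.left) := by
  have hh : Order.height x = 0 := by
    rw [pdim_eq_height] at h
    exact (ENat.toNat_eq_zero.1 h).resolve_right (DimTheory.height_lt_top X.obj.hom x).ne
  refine isClosed_of_closure_subset fun y hy => ?_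
  have h1 : x ⤳ y := specializes_iff_mem_closure.2 hy
  exact (Specializes.antisymm (Order.height_eq_zero.1 hh (show y ≤ x from h1)) h1).eq.symm ▸ rfl

theorem deg_eq_tr [IsAlgClosed k] (X : WeilCoh.Var k) [QuasiCompact X.obj.hom]
    (δ : X.obj.left → ℤ) (hδ : Cyc.DeltaCompat X.obj.hom δ (fun _ => 0))
    (α : AlgebraicCycle X.obj.left ℤ) (hα : α ∈ Cyc.Zk X.obj.left δ 0) :
    (ChowOps.deg X.obj.hom δ α : K) = T.tr X (T.clCyc X α) := by
  classical
  let s := (support_finite α).toFinset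
  have hs : ∀ x, α x ≠ 0 → x ∈ s := fun x hx => (Set.Finite.mem_toFinset _).2 hx
  rw [clCyc_eq_sum (T := T) α s hs, map_sum]
  unfold ChowOps.deg
  rw [map_apply _ _ _ α s hs]
  have : ∀ x : X.obj.left, X.obj.hom x = IsLocalRing.closedPoint k := fun x =>
    Subsingleton.elim (α := PrimeSpectrum k) _ _
  rw [Finset.filter_true_of_mem fun x _ => this x, Int.cast_sum]
  refine Finset.sum_congr rfl fun x hx => ?_
  have hne : α x ≠ 0 := (Set.Finite.mem_toFinset _).1 hx
  have h0 : δ x = 0 := by_contra fun h => hne (hα x h)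
  have hcl : IsClosed ({x} : Set X.obj.left) := isClosed_of_pdim_eq_zero (X := X)
    (by have := delta_eq_pdim hδ x; omega)
  rw [map_smul, tr_cl_closed X x hcl, AlgebraicCycle.mapCoeff, if_pos h0,
    residueDegree_of_isClosed X.obj.hom hcl]
  simp

theorem clCyc_mem_top [IsAlgClosed k] (X : WeilCoh.Var k) (δ : X.obj.left → ℤ)
    (hδ : Cyc.DeltaCompat X.obj.hom δ (fun _ => 0))
    (α : AlgebraicCycle X.obj.left ℤ) (hα : α ∈ Cyc.Zk X.obj.left δ 0) :
    T.clCyc X α ∈ T.gr X (dd X) := by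
  classical
  rw [clCyc_eq_sum (T := T) α (support_finite α).toFinset fun x hx => (Set.Finite.mem_toFinset _).2 hx]
  refine sum_mem fun x hx => Submodule.smul_mem _ _ ?_
  have hne : α x ≠ 0 := (Set.Finite.mem_toFinset _).1 hx
  have h0 : δ x = 0 := by_contra fun h => hne (hα x h)
  convert cl_mem' X x using 2
  have := delta_eq_pdim hδ x
  omega

theorem isHomEquivZero_iff [IsAlgClosed k] [CharZero K] (X : WeilCoh.Var k) [QuasiCompact X.obj.hom]
    (δ : X.obj.left → ℤ) (hδ : Cyc.DeltaCompat X.obj.hom δ (fun _ => 0))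
    (α : AlgebraicCycle X.obj.left ℤ) (hα : α ∈ Cyc.Zk X.obj.left δ 0) :
    T.IsHomEquivZero X α ↔ ChowOps.deg X.obj.hom δ α = 0 := by
  rw [← Int.cast_eq_zero (α := K), deg_eq_tr (T := T) X δ hδ α hα]
  refine ⟨fun h => by rw [show T.clCyc X α = 0 from h, map_zero], fun h => ?_⟩
  exact eq_of_tr_top (clCyc_mem_top X δ hδ α hα) (zero_mem _) (by rw [h, map_zero])

end Groth.Agent.WeilCohLib
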