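import Groth.Agent.WeilCohLib.Graph
import Mathlib.LinearAlgebra.Trace
import Mathlib.LinearAlgebra.Dimension.Free

/-!
# Künneth components, the class of a graph, the trace formula
-/

set_option autoImplicit false
set_option backward.isDefEq.respectTransparency.types false
set_option linter.style.haveILetI false

universe u v w

open CategoryTheory AlgebraicGeometry

namespace Groth.Agent.WeilCohLib

variable {k : Type u} [Field k] {K : Type v} [Field K]
variable {T : WeilCoh.TheoryOn.{u, v, w} k (WeilCoh.IsVar k) K}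

/-- the Koszul sign -/
def sgn (K : Type v) [Field K] (i j : ℤ) : K := (-1) ^ (i.natAbs * j.natAbs)

theorem sgn_eq (i j : ℤ) : sgn K i j = if Even i ∨ Even j then 1 else -1 := by
  unfold sgn
  split_ifs with h
  · refine Even.neg_one_pow ?_
    rcases h with h | h
    · exact (Int.natAbs_even.2 h).mul_right _
    · exact (Int.natAbs_even.2 h).mul_left _
  · push Not at h
    exact Odd.neg_one_pow ((Int.natAbs_odd.2 (Int.not_even_iff_odd.1 h.1)).mul
      (Int.natAbs_odd.2 (Int.not_even_iff_odd.1 h.2)))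

theorem comm_sgn {X : WeilCoh.Var k} {i j : ℤ} {a b : T.H X} (ha : a ∈ T.gr X i) (hb : b ∈ T.gr X j) :
    a * b = sgn K i j • (b * a) := T.gradedComm X i j a b ha hb

@[elab_as_elim]
theorem homogeneous_induction {X : WeilCoh.Var k} {motive : T.H X → Prop} (zero : motive 0)
    (add : ∀ a b, motive a → motive b → motive (a + b)) (mem : ∀ i a, a ∈ T.gr X i → motive a) (a : T.H X) :
    motive a := by
  have ha : a ∈ ⨆ i, T.gr X i := by rw [(T.decomp X).submodule_iSup_eq_top]; trivial
  induction ha using Submodule.iSup_induction' with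
  | zero => exact zero
  | add x y _ _ hx hy => exact add x y hx hy
  | mem i x hx => exact mem i x hx

/-- multiplicativity of the trace on products, for all classes -/
theorem tr_kunneth {X Y Q : WeilCoh.Var k} {p : Q ⟶ X} {q : Q ⟶ Y} (h : WeilCoh.IsProd p q)
    (a : T.H X) (b : T.H Y) : T.tr Q (T.pull p a * T.pull q b) = T.tr X a * T.tr Y b := by
  induction a using homogeneous_induction with
  | zero => simp
  | add a a' ha ha' => simp [map_add, add_mul, ha, ha']
  | mem i a ha =>
    induction b using homogeneous_induction with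
    | zero => simp
    | add b b' hb hb' => simp [map_add, mul_add, hb, hb']
    | mem j b hb =>
      have hd := dd_prod h T
      by_cases hi : i = dd X ∧ j = dd Y
      · obtain ⟨rfl, rfl⟩ := hi
        exact T.tr_prod p q h a b ha hb
      · have h0 : T.tr X a * T.tr Y b = 0 := by
          rcases not_and_or.1 hi with hi | hi
          · rw [T.tr_vanish X i a ha hi, zero_mul]
          · rw [T.tr_vanish Y j b hb hi, mul_zero]
        rw [h0]
        by_cases hs : i + j = dd Q
        · rcases lt_or_ge (dd X) i with hgt | hle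
          · have ha0 : a = 0 := (Submodule.mem_bot K).1 (T.vanish X i (Or.inr hgt) ▸ ha)
            simp [ha0]
          · have hj : dd Y < j := by
              rcases not_and_or.1 hi with hi | hi <;> omega
            have hb0 : b = 0 := (Submodule.mem_bot K).1 (T.vanish Y j (Or.inr hj) ▸ hb)
            simp [hb0]
        · exact T.tr_vanish Q _ _ (SetLike.mul_mem_graded (T.pull_mem p i a ha) (T.pull_mem q j b hb)) hs

theorem eq_of_forall_tr_prod {X Y P : WeilCoh.Var k} {p : P ⟶ X} {q : P ⟶ Y} (hP : WeilCoh.IsProd p q) {n : ℤ}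
    {x y : T.H P} (hx : x ∈ T.gr P n) (hy : y ∈ T.gr P n)
    (h : ∀ (i j : ℤ) (a : T.H X) (b : T.H Y), a ∈ T.gr X i → b ∈ T.gr Y j → n + (i + j) = dd P →
      T.tr P (x * (T.pull p a * T.pull q b)) = T.tr P (y * (T.pull p a * T.pull q b))) : x = y := by
  refine eq_of_forall_tr hx hy fun c hc => ?_
  clear hc
  obtain ⟨z, rfl⟩ := (T.kunneth p q hP).2 c
  induction z using TensorProduct.induction_on with
  | zero => simp
  | add z z' hz hz' => simp [map_add, mul_add, hz, hz']
  | tmul a b =>
    show T.tr P (x * (T.pull p a * T.pull q b)) = T.tr P (y * (T.pull p a * T.pull q b))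
    induction a using homogeneous_induction with
    | zero => simp
    | add a a' ha ha' => simp only [map_add, add_mul, mul_add, ha, ha']
    | mem i a ha =>
      induction b using homogeneous_induction with
      | zero => simp
      | add b b' hb hb' => simp only [map_add, mul_add, hb, hb']
      | mem j b hb =>
        by_cases hs : n + (i + j) = dd P
        · exact h i j a b ha hb hs
        · have hm := SetLike.mul_mem_graded (T.pull_mem p i a ha) (T.pull_mem q j b hb)
          rw [T.tr_vanish P _ _ (SetLike.mul_mem_graded hx hm) hs,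
            T.tr_vanish P _ _ (SetLike.mul_mem_graded hy hm) hs]

/-- the trace of a product of decomposable classes -/
theorem tr_mul_kunneth {X Y P : WeilCoh.Var k} {p : P ⟶ X} {q : P ⟶ Y} (hP : WeilCoh.IsProd p q)
    {i j : ℤ} (c a : T.H X) (f b : T.H Y) (hf : f ∈ T.gr Y j) (ha : a ∈ T.gr X i) :
    T.tr P (T.pull p c * T.pull q f * (T.pull p a * T.pull q b)) = sgn K j i * (T.tr X (c * a) * T.tr Y (f * b)) := by
  rw [mul_assoc, ← mul_assoc (T.pull q f), comm_sgn (T.pull_mem q j f hf) (T.pull_mem p i a ha),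
    smul_mul_assoc, mul_smul_comm, map_smul, smul_eq_mul, mul_assoc, ← mul_assoc (T.pull p c),
    ← map_mul, ← map_mul, tr_kunneth hP]

theorem exists_dual_bases (X : WeilCoh.Var k) (r : ℕ) :
    ∃ (e : Module.Basis (Fin (Module.finrank K (T.gr X (r : ℤ)))) K (T.gr X (r : ℤ)))
      (f : Fin (Module.finrank K (T.gr X (r : ℤ))) → T.gr X (dd X - r)),
      ∀ i l, T.tr X ((f l : T.H X) * (e i : T.H X)) = if i = l then 1 else 0 := by
  haveI := T.duality X (dd X - r) r (by simp [dd])
  let e := Module.finBasis K (T.gr X (r : ℤ))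
  let B := WeilCoh.pairing K (T.gr X (dd X - r)) (T.gr X (r : ℤ)) (T.tr X)
  refine ⟨e, fun l => B.toPerfPair.symm (e.coord l), fun i l => ?_⟩
  have := LinearMap.congr_fun (B.toPerfPair.apply_symm_apply (e.coord l)) (e i)
  refine this.trans ?_
  simp [Finsupp.single_apply]

theorem coord_eq {X : WeilCoh.Var k} {r : ℤ} {ι : Type} [Fintype ι] [DecidableEq ι]
    (e : Module.Basis ι K (T.gr X r)) (f : ι → T.H X)
    (hef : ∀ i l, T.tr X (f l * (e i : T.H X)) = if i = l then 1 else 0) (b : T.gr X r) (l : ι) :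
    T.tr X (f l * (b : T.H X)) = e.repr b l := by
  have h : (b : T.H X) = ∑ i, e.repr b i • (e i : T.H X) := by
    exact (congrArg (T.gr X r).subtype (e.sum_repr b)).symm.trans (map_sum (T.gr X r).subtype _ _)
  rw [h, Finset.mul_sum, map_sum, Finset.sum_eq_single l]
  · rw [mul_smul_comm, map_smul, hef, if_pos rfl, smul_eq_mul, mul_one]
  · intro i _ hi; rw [mul_smul_comm, map_smul, hef, if_neg hi, smul_zero]
  · simp

theorem cl_graph_eq_sum {X P : WeilCoh.Var k} (φ : X ⟶ X) (p q : P ⟶ X) (hP : WeilCoh.IsProd p q)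
    (j : X ⟶ P) (hjp : j ≫ p = 𝟙 X) (hjq : j ≫ q = φ)
    (ι : ℕ → Type) [∀ r, Fintype (ι r)] [∀ r, DecidableEq (ι r)]
    (e : (r : ℕ) → Module.Basis (ι r) K ↥(T.gr X (r : ℤ)))
    (f : (r : ℕ) → ι r → ↥(T.gr X (dd X - r)))
    (hef : ∀ r, r ≤ 2 * WeilCoh.dim X.obj.left → ∀ i l : ι r,
      T.tr X ((f r l : T.H X) * (e r i : T.H X)) = if i = l then 1 else 0) :
    T.cl P (WeilCoh.sm j (genericPoint X.obj.left)) =
      ∑ r ∈ Finset.range (2 * WeilCoh.dim X.obj.left + 1), ∑ i : ι r,
        T.pull p (T.pull φ (e r i : T.H X)) * T.pull q (f r i : T.H X) := by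
  classical
  have hd := dd_prod hP T
  have hc := graph_codim hjp
  refine eq_of_forall_tr_prod hP (n := dd X) ?_ ?_ fun i₁ j₁ a b ha hb hs => ?_
  · convert T.cl_mem P (WeilCoh.sm j (genericPoint X.obj.left)) using 2
    omega
  · refine sum_mem fun r _ => sum_mem fun l _ => ?_
    convert SetLike.mul_mem_graded (T.pull_mem p (r : ℤ) _ (T.pull_mem φ (r : ℤ) _ (e r l).2))
      (T.pull_mem q _ _ (f r l).2) using 2
    ring
  · have hij : i₁ + j₁ = dd X := by omega
    have hm : T.pull p a * T.pull q b ∈ T.gr P (dd X) := hij ▸ SetLike.mul_mem_graded (T.pull_mem p _ a ha) (T.pull_mem q _ b hb)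
    rw [cl_graph_mul hjp hm, map_mul (T.pull j), pull_pull_id hjp, pull_pull hjq]
    simp only [Finset.sum_mul, map_sum]
    rw [Finset.sum_congr rfl fun r _ => Finset.sum_congr rfl fun l _ => tr_mul_kunneth hP _ a _ b (f r l).2 ha]
    by_cases hj : 0 ≤ j₁ ∧ j₁ ≤ dd X
    · obtain ⟨r₀, rfl⟩ : ∃ r₀ : ℕ, j₁ = (r₀ : ℤ) := ⟨j₁.toNat, (Int.toNat_of_nonneg hj.1).symm⟩
      have hr₀ : r₀ ≤ 2 * WeilCoh.dim X.obj.left := by simp only [dd] at hj; omega
      rw [Finset.sum_eq_single r₀]
      · rw [← Finset.mul_sum]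
        have hb' : T.pull φ b = ∑ l, T.tr X ((f r₀ l : T.H X) * b) • T.pull φ (e r₀ l : T.H X) := by
          rw [Finset.sum_congr rfl fun l _ => by
            rw [coord_eq (e r₀) (fun l => (f r₀ l : T.H X)) (hef r₀ hr₀) ⟨b, hb⟩ l, ← map_smul]]
          rw [← map_sum]
          congr 1
          exact (congrArg (T.gr X (r₀ : ℤ)).subtype ((e r₀).sum_repr ⟨b, hb⟩)).symm.trans
            (map_sum (T.gr X (r₀ : ℤ)).subtype _ _)
        conv_lhs => rw [hb', Finset.mul_sum, map_sum]
        rw [Finset.mul_sum]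
        refine Finset.sum_congr rfl fun l _ => ?_
        rw [mul_smul_comm, map_smul, smul_eq_mul,
          comm_sgn ha (T.pull_mem φ _ _ (e r₀ l).2), map_smul, smul_eq_mul]
        have hsg : sgn K i₁ (r₀ : ℤ) = sgn K (dd X - r₀) i₁ := by
          rw [sgn_eq, sgn_eq]
          have : Even i₁ ↔ Even (r₀ : ℤ) := by
            rw [show i₁ = dd X - r₀ by omega, Int.even_sub]
            simp [dd]
          simp [this, Int.even_sub, dd]
        rw [hsg]
        ring
      · intro r _ hr
        refine Finset.sum_eq_zero fun l _ => ?_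
        rw [T.tr_vanish X _ _ (SetLike.mul_mem_graded (f r l).2 hb) (by simp only [dd]; omega), mul_zero, mul_zero]
      · intro h; exact absurd (Finset.mem_range.2 (by omega)) h
    · have hb0 : b = 0 := (Submodule.mem_bot K).1 (T.vanish X j₁ (by simp only [dd] at *; omega) ▸ hb)
      simp [hb0]

theorem lefschetz {X P : WeilCoh.Var k} (φ : X ⟶ X) (p q : P ⟶ X) (hP : WeilCoh.IsProd p q)
    (j d : X ⟶ P) (hjp : j ≫ p = 𝟙 X) (hjq : j ≫ q = φ) (hdp : d ≫ p = 𝟙 X) (hdq : d ≫ q = 𝟙 X) :
    T.tr P (T.cl P (WeilCoh.sm j (genericPoint X.obj.left)) * T.cl P (WeilCoh.sm d (genericPoint X.obj.left))) =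
      ∑ i ∈ Finset.range (2 * WeilCoh.dim X.obj.left + 1),
        (-1 : K) ^ i * LinearMap.trace K ↥(T.gr X (i : ℤ)) (T.pullDeg φ (i : ℤ)) := by
  classical
  choose e f hef using fun r : ℕ => exists_dual_bases (T := T) X r
  have hc := graph_codim hjp
  have hd := dd_prod hP T
  rw [comm_of_even (T.cl_mem P _) (T.cl_mem P _) (Or.inl (even_two_mul _)),
    cl_graph_mul hdp (by convert T.cl_mem P (WeilCoh.sm j (genericPoint X.obj.left)) using 2; omega),
    cl_graph_eq_sum φ p q hP j hjp hjq _ e f fun r _ => hef r]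
  simp only [map_sum]
  refine Finset.sum_congr rfl fun r _ => ?_
  rw [LinearMap.trace_eq_matrix_trace K (e r), Matrix.trace, Finset.mul_sum]
  refine Finset.sum_congr rfl fun l _ => ?_
  rw [map_mul, pull_pull_id hdp, pull_pull_id hdq, Matrix.diag_apply, LinearMap.toMatrix_apply,
    ← coord_eq (e r) (fun l => (f r l : T.H X)) (hef r),
    comm_sgn (T.pull_mem φ _ _ (e r l).2) (f r l).2, map_smul, smul_eq_mul]
  congr 1
  rw [sgn_eq]
  rcases Nat.even_or_odd r with hr | hr
  · simp [hr.neg_one_pow, hr]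
  · have h1 : ¬ Even (r : ℤ) := by simpa [Int.even_coe_nat] using hr
    simp [hr.neg_one_pow, h1, Int.even_sub, dd]

end Groth.Agent.WeilCohLib
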