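import Groth.Agent.CharRev.Trace
import Groth.Prelude.Def_W4c1zetahwZeta
import Mathlib.LinearAlgebra.Matrix.Charpoly.Coeff
import Mathlib.LinearAlgebra.Charpoly.ToMatrix
import Mathlib.RingTheory.PowerSeries.Derivative
import Mathlib.LinearAlgebra.Trace

/-!
# Power series: exponential of traces of powers
-/

set_option autoImplicit false
set_option linter.style.haveILetI false

universe u v w

namespace Groth.Agent.WeilCohLib

open PowerSeries

variable {K : Type v} [Field K]

/-- `X * d/dX` -/
noncomputable def theta (g : PowerSeries K) : PowerSeries K := mk fun n => (n : K) * coeff n g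

theorem theta_eq (g : PowerSeries K) : theta g = X * d⁄dX K g := by
  ext n
  cases n with
  | zero => simp [theta]
  | succ n => simp [theta, coeff_succ_X_mul, coeff_derivative, mul_comm]

theorem theta_mul (f g : PowerSeries K) : theta (f * g) = theta f * g + f * theta g := by
  rw [theta_eq, theta_eq, theta_eq, Derivation.leibniz, smul_eq_mul, smul_eq_mul]
  ring

theorem eq_of_theta [CharZero K] {g g' h : PowerSeries K} (hh : constantCoeff h = 0)
    (hg : theta g = g * h) (hg' : theta g' = g' * h) (h0 : constantCoeff g = constantCoeff g') : g = g' := by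
  ext n
  induction n using Nat.strong_induction_on with
  | _ n ih =>
    rcases Nat.eq_zero_or_pos n with rfl | hn
    · simpa using h0
    have key : ∀ f : PowerSeries K, theta f = f * h →
        (n : K) * coeff n f = ∑ x ∈ (Finset.HasAntidiagonal.antidiagonal n).filter (fun x => x.1 < n),
          coeff x.1 f * coeff x.2 h := fun f hf => by
      have h1 := congrArg (coeff n) hf
      rw [coeff_mul] at h1
      simp only [theta, coeff_mk] at h1
      rw [h1, Finset.sum_filter]
      refine Finset.sum_congr rfl fun x hx => ?_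
      split_ifs with hx'
      · rfl
      · rw [Finset.mem_antidiagonal] at hx
        rw [show x.2 = 0 by omega, coeff_zero_eq_constantCoeff, hh, mul_zero]
    refine mul_left_cancel₀ (Nat.cast_ne_zero.2 hn.ne' : (n : K) ≠ 0) ?_
    rw [key g hg, key g' hg']
    exact Finset.sum_congr rfl fun x hx => by rw [ih x.1 (Finset.mem_filter.1 hx).2]

/-- generating series of traces of powers -/
noncomputable def trSeries {M : Type*} [AddCommGroup M] [Module K M] (f : M →ₗ[K] M) : PowerSeries K :=
  mk fun n => if n = 0 then 0 else LinearMap.trace K M (f ^ n)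

theorem trSeries_constantCoeff {M : Type*} [AddCommGroup M] [Module K M] (f : M →ₗ[K] M) :
    constantCoeff (trSeries f) = 0 := by
  simp [trSeries, ← coeff_zero_eq_constantCoeff]

theorem revCharpoly_facts {M : Type*} [AddCommGroup M] [Module K M] [FiniteDimensional K M] (f : M →ₗ[K] M) :
    theta ((f.charpoly.reverse : Polynomial K) : PowerSeries K) =
        ((f.charpoly.reverse : Polynomial K) : PowerSeries K) * -trSeries f ∧
      constantCoeff ((f.charpoly.reverse : Polynomial K) : PowerSeries K) = 1 := by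
  classical
  let b := Module.finBasis K M
  let A := LinearMap.toMatrix b b f
  have hA : f.charpoly.reverse = A.charpolyRev := by
    rw [← LinearMap.charpoly_toMatrix f b, Matrix.reverse_charpoly]
  have htr : trSeries f = mk fun n => if n = 0 then 0 else (A ^ n).trace := by
    ext n
    simp only [trSeries, coeff_mk]
    split_ifs
    · rfl
    · rw [LinearMap.trace_eq_matrix_trace K b, show A ^ n = LinearMap.toMatrix b b (f ^ n) from
        (map_pow (LinearMap.toMatrixAlgEquiv b) f n).symm]
  rw [hA]
  refine ⟨?_, ?_⟩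
  · have h := Groth.Agent.CharRev.X_mul_derivative_charpolyRev A
    rw [Polynomial.coe_neg, Polynomial.coe_mul, Polynomial.coe_X, ← derivative_coe, ← theta_eq, ← htr] at h
    rw [mul_neg, ← h, neg_neg]
  · rw [Polynomial.constantCoeff_coe, Polynomial.coeff_zero_eq_eval_zero, Matrix.eval_charpolyRev]

theorem prod_facts {ι : Type*} (s : Finset ι) (P T : ι → PowerSeries K)
    (h : ∀ i ∈ s, theta (P i) = P i * -(T i)) :
    theta (∏ i ∈ s, P i) = (∏ i ∈ s, P i) * -∑ i ∈ s, T i := by
  classical
  induction s using Finset.induction with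
  | empty =>
    ext n
    cases n with
    | zero => simp [theta]
    | succ n => simp [theta]
  | insert a s ha ih =>
    rw [Finset.prod_insert ha, Finset.sum_insert ha, theta_mul, h a (Finset.mem_insert_self a s),
      ih fun i hi => h i (Finset.mem_insert_of_mem hi)]
    ring

theorem sum_range_parity {R : Type*} [CommRing R] (G : ℕ → R) : ∀ d : ℕ,
    ∑ i ∈ Finset.range (2 * d + 1), (-1 : R) ^ i * G i =
      ∑ i ∈ Finset.range (d + 1), G (2 * i) - ∑ i ∈ Finset.range d, G (2 * i + 1)
  | 0 => by simp
  | d + 1 => by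
    rw [show 2 * (d + 1) + 1 = 2 * d + 1 + 1 + 1 by ring, Finset.sum_range_succ, Finset.sum_range_succ,
      sum_range_parity G d, Finset.sum_range_succ (fun i => G (2 * i)) (d + 1),
      Finset.sum_range_succ (fun i => G (2 * i + 1)) d,
      show (-1 : R) ^ (2 * d + 1) = -1 by simp [pow_succ, pow_mul],
      show (-1 : R) ^ (2 * d + 1 + 1) = 1 by simp [pow_succ, pow_mul]]
    rw [show 2 * (d + 1) = 2 * d + 1 + 1 by ring]
    ring

theorem zetaFun_mul_eq [CharZero K] {k₀ : Type u} [Field k₀] {X : AlgebraicGeometry.Scheme.{u}}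
    (f : X ⟶ AlgebraicGeometry.Spec (CommRingCat.of k₀)) (d : ℕ)
    (M : ℕ → Type w) [∀ i, AddCommGroup (M i)] [∀ i, Module K (M i)] [∀ i, FiniteDimensional K (M i)]
    (F : ∀ i, M i →ₗ[K] M i)
    (htr : ∀ n : ℕ, 0 < n → (Zeta.nPts f n : K) =
      ∑ i ∈ Finset.range (2 * d + 1), (-1 : K) ^ i * LinearMap.trace K (M i) (F i ^ n)) :
    PowerSeries.map (algebraMap ℚ K) (Zeta.zetaFun f) *
        (∏ i ∈ Finset.range (d + 1), ((F (2 * i)).charpoly.reverse : PowerSeries K)) =
      ∏ i ∈ Finset.range d, ((F (2 * i + 1)).charpoly.reverse : PowerSeries K) := by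
  classical
  have hL0 : constantCoeff (Zeta.logZeta f) = 0 := by
    simp [Zeta.logZeta, Zeta.nPts, ← coeff_zero_eq_constantCoeff]
  have hsub : HasSubst (Zeta.logZeta f) := HasSubst.of_constantCoeff_zero' hL0
  have hZ : theta (PowerSeries.map (algebraMap ℚ K) (Zeta.zetaFun f)) =
      PowerSeries.map (algebraMap ℚ K) (Zeta.zetaFun f) * mk fun n => (Zeta.nPts f n : K) := by
    have h1 : (PowerSeries.X : PowerSeries ℚ) * d⁄dX ℚ (Zeta.zetaFun f) = Zeta.zetaFun f * mk fun n => (Zeta.nPts f n : ℚ) := by
      rw [Zeta.zetaFun, derivative_subst hsub, derivative_exp, ← mul_assoc, mul_comm PowerSeries.X, mul_assoc]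
      congr 1
      ext n
      cases n with
      | zero => simp [Zeta.nPts]
      | succ n =>
        rw [coeff_succ_X_mul, coeff_derivative]
        simp only [Zeta.logZeta, coeff_mk, Nat.cast_add, Nat.cast_one]
        field_simp
    ext n
    have h2 := congrArg (algebraMap ℚ K) (congrArg (coeff n) h1)
    simp only [coeff_mul, map_sum, map_mul, coeff_mk] at h2
    rw [coeff_mul]
    cases n with
    | zero => simp [theta, Zeta.nPts]
    | succ n =>
      rw [show ∑ p ∈ Finset.HasAntidiagonal.antidiagonal (n + 1),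
          algebraMap ℚ K (coeff p.1 (PowerSeries.X : PowerSeries ℚ)) * algebraMap ℚ K (coeff p.2 (d⁄dX ℚ (Zeta.zetaFun f))) =
          algebraMap ℚ K (coeff (n + 1) ((PowerSeries.X : PowerSeries ℚ) * d⁄dX ℚ (Zeta.zetaFun f))) by rw [coeff_mul, map_sum]; simp only [map_mul],
        coeff_succ_X_mul, coeff_derivative] at h2
      simp only [theta, coeff_mk, PowerSeries.coeff_map, map_mul, map_add, map_natCast, map_one] at h2 ⊢
      rw [← h2]
      push_cast
      ring
  set Z := PowerSeries.map (algebraMap ℚ K) (Zeta.zetaFun f) with hZdef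
  have hN : (mk fun n => (Zeta.nPts f n : K)) = (∑ i ∈ Finset.range (d + 1), trSeries (F (2 * i))) -
      ∑ i ∈ Finset.range d, trSeries (F (2 * i + 1)) := by
    ext n
    simp only [coeff_mk, map_sub, map_sum, trSeries]
    rcases Nat.eq_zero_or_pos n with rfl | hn
    · simp [Zeta.nPts]
    · simp only [if_neg hn.ne']
      rw [htr n hn, sum_range_parity]
  refine eq_of_theta (h := -∑ i ∈ Finset.range d, trSeries (F (2 * i + 1))) ?_ ?_ ?_ ?_
  · simp [trSeries_constantCoeff]
  · rw [theta_mul, hZ, prod_facts _ _ (fun i => trSeries (F (2 * i))) fun i _ => (revCharpoly_facts _).1, hN]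
    ring
  · exact prod_facts _ _ (fun i => trSeries (F (2 * i + 1))) fun i _ => (revCharpoly_facts _).1
  · rw [map_mul, map_prod, map_prod, Finset.prod_eq_one fun i _ => (revCharpoly_facts _).2,
      Finset.prod_eq_one fun i _ => (revCharpoly_facts _).2, mul_one, hZdef, ← coeff_zero_eq_constantCoeff,
      PowerSeries.coeff_map, Zeta.zetaFun, coeff_subst' hsub, finsum_eq_single _ 0 fun j hj => ?_]
    · simp
    · rw [coeff_zero_eq_constantCoeff, map_pow, hL0, zero_pow hj, smul_zero]

/-- rationality descends from `K` to `ℚ` -/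
theorem rational_of_rational [CharZero K] (Z : PowerSeries ℚ) (E O : Polynomial K) (hE : E ≠ 0)
    (h : PowerSeries.map (algebraMap ℚ K) Z * (E : PowerSeries K) = (O : PowerSeries K)) :
    ∃ P Q : Polynomial ℚ, Q ≠ 0 ∧ Z * (Q : PowerSeries ℚ) = (P : PowerSeries ℚ) := by
  classical
  obtain ⟨i₀, hi₀⟩ : ∃ i, E.coeff i ≠ 0 := by
    by_contra h0; push Not at h0; exact hE (Polynomial.ext fun i => by simpa using h0 i)
  obtain ⟨ℓ, hℓ⟩ : ∃ ℓ : K →ₗ[ℚ] ℚ, ℓ (E.coeff i₀) ≠ 0 := by
    by_contra h0; push Not at h0
    exact hi₀ ((Module.forall_dual_apply_eq_zero_iff ℚ _).1 h0)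
  let Q : Polynomial ℚ := ∑ i ∈ E.support, Polynomial.monomial i (ℓ (E.coeff i))
  have hQ : ∀ i, Q.coeff i = ℓ (E.coeff i) := fun i => by
    simp only [Q, Polynomial.finsetSum_coeff, Polynomial.coeff_monomial]
    rw [Finset.sum_ite_eq']
    split_ifs with hi
    · rfl
    · rw [Polynomial.notMem_support_iff.1 hi, map_zero]
  refine ⟨PowerSeries.trunc (O.natDegree + 1) (Z * (Q : PowerSeries ℚ)), Q,
    fun hQ0 => hℓ (by rw [← hQ, hQ0, Polynomial.coeff_zero]), ?_⟩
  ext n
  rw [Polynomial.coeff_coe, PowerSeries.coeff_trunc]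
  split_ifs with hn
  · rfl
  · have h1 := congrArg ℓ (congrArg (coeff n) h)
    rw [coeff_mul, map_sum, Polynomial.coeff_coe, Polynomial.coeff_eq_zero_of_natDegree_lt (by omega), map_zero] at h1
    rw [coeff_mul, ← h1]
    refine Finset.sum_congr rfl fun x _ => ?_
    rw [Polynomial.coeff_coe, hQ, PowerSeries.coeff_map, Polynomial.coeff_coe, ← Algebra.smul_def, map_smul,
      smul_eq_mul]

end Groth.Agent.WeilCohLib
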