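import Groth.Agent.WeilCohLib.Fixed
import Groth.Agent.WeilCohLib.Series

/-!
# Rationality of the zeta function from a Weil cohomology theory
-/

set_option autoImplicit false
set_option backward.isDefEq.respectTransparency.types false
set_option linter.style.haveILetI false

universe u v

open CategoryTheory AlgebraicGeometry

namespace Groth.Agent.WeilCohLib

variable {k₀ : Type u} [Field k₀] [Finite k₀] {k : Type u} [Field k] [IsAlgClosed k] [Algebra k₀ k]
    {K : Type v} [Field K] [CharZero K] (T : WeilCoh.Theory k K)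
    {X : Scheme.{u}} (f : X ⟶ Spec (CommRingCat.of k₀)) [LocallyOfFiniteType f]
    (FX : X ⟶ X) (hle : ∀ U : X.Opens, U ≤ FX ⁻¹ᵁ U)
    (hFapp : ∀ (U : X.Opens) (s : Γ(X, U)), (FX.appLE U U (hle U)).hom s = s ^ Nat.card k₀)
    (Xb : WeilCoh.Var k) (π : Xb.obj.left ⟶ X)
    (hπ : IsPullback π Xb.obj.hom f (Spec.map (CommRingCat.ofHom (algebraMap k₀ k))))
    (F : Xb ⟶ Xb) (hF : WeilCoh.sm F ≫ π = π ≫ FX)
    (Pb : WeilCoh.Var k) (p q : Pb ⟶ Xb) (hP : WeilCoh.IsProd p q)

include hFapp hπ hF hP in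
theorem zetaFun_mul_prod :
    PowerSeries.map (algebraMap ℚ K) (Zeta.zetaFun f) *
        (∏ i ∈ Finset.range (WeilCoh.dim Xb.obj.left + 1),
          ((LinearMap.charpoly (T.pullDeg F ((2 * i : ℕ) : ℤ))).reverse : PowerSeries K)) =
      ∏ i ∈ Finset.range (WeilCoh.dim Xb.obj.left),
        ((LinearMap.charpoly (T.pullDeg F ((2 * i + 1 : ℕ) : ℤ))).reverse : PowerSeries K) :=
  zetaFun_mul_eq f (WeilCoh.dim Xb.obj.left) _ (fun i : ℕ => T.pullDeg F (i : ℤ))
    fun n hn => nPts_eq_sum_trace (T := T) f FX hle hFapp hπ hF p q hP n hn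

include hFapp hπ hF hP in
theorem zetaFun_rational (T : WeilCoh.Theory k K) :
    ∃ P Q : Polynomial ℚ, Q ≠ 0 ∧ Zeta.zetaFun f * (Q : PowerSeries ℚ) = (P : PowerSeries ℚ) := by
  have h := zetaFun_mul_prod T f FX hle hFapp Xb π hπ F hF Pb p q hP
  refine rational_of_rational (K := K) _
    (∏ i ∈ Finset.range (WeilCoh.dim Xb.obj.left + 1), (LinearMap.charpoly (T.pullDeg F ((2 * i : ℕ) : ℤ))).reverse)
    (∏ i ∈ Finset.range (WeilCoh.dim Xb.obj.left), (LinearMap.charpoly (T.pullDeg F ((2 * i + 1 : ℕ) : ℤ))).reverse) ?_ ?_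
  · refine Finset.prod_ne_zero_iff.2 fun i _ hi => ?_
    have := (revCharpoly_facts (T.pullDeg F ((2 * i : ℕ) : ℤ))).2
    rw [hi, Polynomial.coe_zero, map_zero] at this
    exact zero_ne_one this
  · simpa [← Polynomial.coeToPowerSeries.ringHom_apply, map_prod] using h

end Groth.Agent.WeilCohLib
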