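import Groth.Agent.WeilCohLib.Degree
import Groth.Agent.WeilCohLib.Kunneth
import Groth.Agent.WeilCohLib.Series
import Mathlib.Algebra.Polynomial.Reverse
import Mathlib.FieldTheory.RatFunc.AsPolynomial

/-!
# Poincaré duality and the functional equation
-/

set_option autoImplicit false
set_option backward.isDefEq.respectTransparency.types false
set_option linter.style.haveILetI false

universe u v w x y

open CategoryTheory AlgebraicGeometry

namespace Groth.Agent.WeilCohLib

section LinAlg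

variable {K : Type v} [Field K] {V : Type x} {W : Type y} [AddCommGroup V] [Module K V] [FiniteDimensional K V]
  [AddCommGroup W] [Module K W] [FiniteDimensional K W]

theorem det_dualMap' (G : W →ₗ[K] W) : LinearMap.det G.dualMap = LinearMap.det G := by
  classical
  let b := Module.finBasis K W
  rw [← LinearMap.det_toMatrix b.dualBasis, ← LinearMap.det_toMatrix b, show LinearMap.toMatrix b.dualBasis b.dualBasis G.dualMap =
    (LinearMap.toMatrix b b G).transpose from LinearMap.toMatrix_transpose G, Matrix.det_transpose]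

theorem eval_reverse_charpoly (G : W →ₗ[K] W) (t : K) :
    G.charpoly.reverse.eval t = LinearMap.det (LinearMap.id - t • G) := by
  classical
  let b := Module.finBasis K W
  rw [← LinearMap.charpoly_toMatrix G b, Matrix.reverse_charpoly, Matrix.charpolyRev, ← Polynomial.coe_evalRingHom,
    RingHom.map_det, ← LinearMap.det_toMatrix b]
  simp only [map_sub, LinearMap.toMatrix_id, map_smul]
  congr 1
  ext i j
  simp [Matrix.one_apply]
  ring

theorem finrank_eq_of_perfPair (B : V →ₗ[K] W →ₗ[K] K) [B.IsPerfPair] :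
    Module.finrank K V = Module.finrank K W := by
  rw [B.toPerfPair.finrank_eq, Subspace.dual_finrank_eq]

variable (B : V →ₗ[K] W →ₗ[K] K) [B.IsPerfPair] (F : V →ₗ[K] V) (G : W →ₗ[K] W) (c : K) (hFG : ∀ (v : V) (w : W), B (F v) (G w) = c * B v w)

include hFG in
theorem det_id_sub_mul_det (t : K) :
    LinearMap.det (LinearMap.id - t • G) * LinearMap.det F = LinearMap.det (F - (t * c) • LinearMap.id) := by
  let φ : V ≃ₗ[K] Module.Dual K W := B.toPerfPair
  have h : φ.toLinearMap.comp (F - (t * c) • LinearMap.id) =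
      (LinearMap.id - t • G : W →ₗ[K] W).dualMap.comp (φ.toLinearMap.comp F) := by
    ext v w
    simp [φ, hFG, map_sub, mul_assoc]
  have h2 : F - (t * c) • LinearMap.id =
      (φ.symm.toLinearMap.comp ((LinearMap.id - t • G : W →ₗ[K] W).dualMap.comp φ.symm.symm.toLinearMap)).comp F := by
    ext v
    have := congrArg (fun f => φ.symm (f v)) h
    simpa using this
  rw [h2, LinearMap.det_comp, LinearMap.det_conj, det_dualMap']

include hFG in
theorem det_mul_det : LinearMap.det F * LinearMap.det G = c ^ Module.finrank K V := by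
  let φ : V ≃ₗ[K] Module.Dual K W := B.toPerfPair
  have h : G.dualMap.comp (φ.toLinearMap.comp F) = c • φ.toLinearMap := by
    ext v w
    simpa [φ] using hFG v w
  have h2 : (φ.symm.toLinearMap.comp (G.dualMap.comp φ.symm.symm.toLinearMap)).comp F = c • LinearMap.id := by
    ext v
    have := congrArg (fun f => φ.symm (f v)) h
    simpa using this
  have := congrArg LinearMap.det h2
  rw [LinearMap.det_comp, LinearMap.det_conj, det_dualMap', LinearMap.det_smul, LinearMap.det_id, mul_one, mul_comm] at this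
  exact this

include hFG in
theorem det_smul_reverse_charpoly [CharZero K] :
    LinearMap.det F • G.charpoly.reverse =
      (-1 : Polynomial K) ^ Module.finrank K V * F.charpoly.comp (Polynomial.C c * Polynomial.X) := by
  refine Polynomial.funext fun t => ?_
  rw [Polynomial.eval_smul, smul_eq_mul, eval_reverse_charpoly, mul_comm, det_id_sub_mul_det B F G c hFG,
    Polynomial.eval_mul, Polynomial.eval_pow, Polynomial.eval_neg, Polynomial.eval_one, Polynomial.eval_comp,
    Polynomial.eval_mul, Polynomial.eval_C, Polynomial.eval_X, LinearMap.eval_charpoly, ← LinearMap.det_smul]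
  congr 1
  ext v
  simp [mul_smul, smul_comm t c, sub_eq_add_neg, add_comm]

theorem even_finrank_of_skew [CharZero K] (B : V →ₗ[K] V →ₗ[K] K) [B.IsPerfPair] (h : ∀ a b, B a b = -B b a) :
    Even (Module.finrank K V) := by
  classical
  let b := Module.finBasis K V
  let φ : V ≃ₗ[K] Module.Dual K V := B.toPerfPair
  let M : Matrix (Fin (Module.finrank K V)) (Fin (Module.finrank K V)) K :=
    LinearMap.toMatrix b b.dualBasis φ.toLinearMap
  have hM : M.transpose = -M := by
    ext i j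
    simp only [Matrix.transpose_apply, Matrix.neg_apply, M, LinearMap.toMatrix_apply, Module.Basis.dualBasis_repr]
    exact h (b i) (b j)
  have hu : IsUnit M.det := LinearEquiv.isUnit_det φ b b.dualBasis
  have hd := congrArg Matrix.det hM
  rw [Matrix.det_transpose, Matrix.det_neg, Fintype.card_fin] at hd
  by_contra ho
  rw [(Nat.not_even_iff_odd.1 ho).neg_one_pow, neg_one_mul] at hd
  exact hu.ne_zero (CharZero.eq_neg_self_iff.1 hd)

end LinAlg

variable {k₀ : Type u} [Field k₀] [Finite k₀] {k : Type u} [Field k] [IsAlgClosed k] [Algebra k₀ k]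
    {K : Type v} [Field K]

/-- `b i`, as a function on the natural numbers -/
noncomputable abbrev betti (T : WeilCoh.TheoryOn.{u, v, w} k (WeilCoh.IsVar k) K) (X : WeilCoh.Var k) (i : ℤ) : ℕ :=
  Module.finrank K (T.gr X i)

section

variable (T : WeilCoh.TheoryOn.{u, v, w} k (WeilCoh.IsVar k) K) (X : WeilCoh.Var k)

theorem betti_compl (i : ℤ) : betti T X (dd X - i) = betti T X i := by
  haveI := T.duality X i (dd X - i) (by simp [dd])
  haveI := T.finite X i
  haveI := T.finite X (dd X - i)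
  exact (finrank_eq_of_perfPair (WeilCoh.pairing K (T.gr X i) (T.gr X (dd X - i)) (T.tr X))).symm

theorem even_betti_middle [CharZero K] (h : Odd (WeilCoh.dim X.obj.left)) :
    Even (betti T X (WeilCoh.dim X.obj.left : ℤ)) := by
  haveI := T.duality X (WeilCoh.dim X.obj.left) (WeilCoh.dim X.obj.left) (by ring)
  haveI := T.finite X (WeilCoh.dim X.obj.left)
  refine even_finrank_of_skew (WeilCoh.pairing K (T.gr X _) (T.gr X _) (T.tr X)) fun a b => ?_
  show T.tr X ((a : T.H X) * b) = -T.tr X ((b : T.H X) * a)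
  rw [comm_sgn a.2 b.2, map_smul, smul_eq_mul, sgn_eq, if_neg, neg_one_mul]
  rw [or_self, Int.even_coe_nat]
  exact Nat.not_even_iff_odd.2 h

end

section Frobenius

variable (T : WeilCoh.TheoryOn.{u, v, w} k (WeilCoh.IsVar k) K)
    {X : Scheme.{u}} (f : X ⟶ Spec (CommRingCat.of k₀))
    (FX : X ⟶ X) (hle : ∀ U : X.Opens, U ≤ FX ⁻¹ᵁ U)
    (hFapp : ∀ (U : X.Opens) (s : Γ(X, U)), (FX.appLE U U (hle U)).hom s = s ^ Nat.card k₀)
    (Xb : WeilCoh.Var k) (π : Xb.obj.left ⟶ X)
    (hπ : IsPullback π Xb.obj.hom f (Spec.map (CommRingCat.ofHom (algebraMap k₀ k))))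
    (F : Xb ⟶ Xb) (hF : WeilCoh.sm F ≫ π = π ≫ FX)

include hFapp hπ hF in
theorem pairing_scale (i : ℤ) (a : T.gr Xb i) (b : T.gr Xb (dd Xb - i)) :
    WeilCoh.pairing K _ _ (T.tr Xb) (T.pullDeg F i a) (T.pullDeg F (dd Xb - i) b) =
      (Nat.card k₀ : K) ^ WeilCoh.dim Xb.obj.left * WeilCoh.pairing K _ _ (T.tr Xb) a b := by
  obtain ⟨h1, h2⟩ := frob_degree f FX hle hFapp hπ hF
  show T.tr Xb (T.pull F (a : T.H Xb) * T.pull F (b : T.H Xb)) = _ * T.tr Xb ((a : T.H Xb) * (b : T.H Xb))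
  rw [← map_mul (T.pull F), tr_pull F h1 rfl _ (by
    simpa using SetLike.mul_mem_graded a.2 b.2), h2, Nat.cast_pow]

include hFapp hπ hF in
theorem det_mul_det_compl (i : ℤ) :
    LinearMap.det (T.pullDeg F (dd Xb - i)) * LinearMap.det (T.pullDeg F i) =
      ((Nat.card k₀ : K) ^ WeilCoh.dim Xb.obj.left) ^ betti T Xb i := by
  haveI := T.duality Xb i (dd Xb - i) (by simp [dd])
  haveI := T.finite Xb i
  haveI := T.finite Xb (dd Xb - i)
  rw [mul_comm]
  exact det_mul_det _ _ _ _ (pairing_scale T f FX hle hFapp Xb π hπ F hF i)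

include hFapp hπ hF in
theorem det_smul_reverse_compl [CharZero K] (i : ℤ) :
    LinearMap.det (T.pullDeg F i) • (T.pullDeg F (dd Xb - i)).charpoly.reverse =
      (-1 : Polynomial K) ^ betti T Xb i * (T.pullDeg F i).charpoly.comp
        (Polynomial.C ((Nat.card k₀ : K) ^ WeilCoh.dim Xb.obj.left) * Polynomial.X) := by
  haveI := T.duality Xb i (dd Xb - i) (by simp [dd])
  haveI := T.finite Xb i
  haveI := T.finite Xb (dd Xb - i)
  exact det_smul_reverse_charpoly _ _ _ _ (pairing_scale T f FX hle hFapp Xb π hπ F hF i)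

end Frobenius

section Alternating

theorem even_mul_alternating (b : ℕ → ℕ) (d : ℕ) (hb : ∀ i, i ≤ 2 * d → b (2 * d - i) = b i)
    (hd : Odd d → Even (b d)) :
    Even ((d : ℤ) * ∑ i ∈ Finset.range (2 * d + 1), (-1 : ℤ) ^ i * (b i : ℤ)) := by
  rcases Nat.even_or_odd d with he | ho
  · exact ((Int.even_coe_nat d).2 he).mul_right _
  refine Even.mul_left ?_ _
  have h : ∑ j ∈ Finset.range d, (-1 : ℤ) ^ (d + 1 + j) * (b (d + 1 + j) : ℤ) =
      ∑ i ∈ Finset.range d, (-1 : ℤ) ^ i * (b i : ℤ) := by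
    rw [← Finset.sum_range_reflect]
    refine Finset.sum_congr rfl fun j hj => ?_
    have hj' := Finset.mem_range.1 hj
    rw [show d + 1 + (d - 1 - j) = 2 * d - j by omega, hb j (by omega)]
    congr 1
    refine neg_one_pow_congr ?_
    rw [Nat.even_sub (by omega)]
    simp
  rw [show 2 * d + 1 = d + (1 + d) by ring, Finset.sum_range_add, Finset.sum_range_add, Finset.sum_range_one]
  simp only [add_zero, ← add_assoc]
  rw [h]
  obtain ⟨m, hm⟩ := hd ho
  refine ⟨(∑ i ∈ Finset.range d, (-1 : ℤ) ^ i * (b i : ℤ)) + (-1) ^ d * m, ?_⟩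
  rw [hm]
  push_cast
  ring

theorem prod_compl_sq {M : Type*} [CommMonoid M] (n : ℕ) (D : ℕ → M) (Q : M) (b : ℕ → ℕ)
    (h : ∀ j < n, D (n - 1 - j) * D j = Q ^ b j) :
    (∏ j ∈ Finset.range n, D j) ^ 2 = Q ^ ∑ j ∈ Finset.range n, b j := by
  rw [sq]
  conv_lhs => arg 1; rw [← Finset.prod_range_reflect]
  rw [← Finset.prod_mul_distrib, ← Finset.prod_pow_eq_pow_sum]
  exact Finset.prod_congr rfl fun j hj => h j (Finset.mem_range.1 hj)

end Alternating

section FunctionalEquation

open Polynomial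

variable {K : Type v} [Field K] [CharZero K]

/-- one factor of the functional equation -/
theorem aeval_inv_reverse {V : Type w} [AddCommGroup V] [Module K V] [FiniteDimensional K V] (f : V →ₗ[K] V)
    (R : Polynomial K) (Q : K) (hQ : Q ≠ 0) (n : ℕ) (hn : Module.finrank K V = n)
    (h : LinearMap.det f • R = (-1 : Polynomial K) ^ n * f.charpoly.comp (C Q * X)) :
    aeval ((RatFunc.X : RatFunc K)⁻¹ * RatFunc.C Q⁻¹) f.charpoly.reverse =
      (-1) ^ n * RatFunc.C (LinearMap.det f) * ((RatFunc.C Q * RatFunc.X) ^ n)⁻¹ *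
        algebraMap (Polynomial K) (RatFunc K) R := by
  have hy : RatFunc.C Q * RatFunc.X ≠ (0 : RatFunc K) :=
    mul_ne_zero (by simpa using hQ) RatFunc.X_ne_zero
  letI := invertibleOfNonzero hy
  have h1 := eval₂_reverse_mul_pow (algebraMap K (RatFunc K)) (RatFunc.C Q * RatFunc.X) f.charpoly
  rw [invOf_eq_inv, mul_inv_rev, ← map_inv₀, LinearMap.charpoly_natDegree, hn] at h1
  change aeval _ _ * _ = aeval _ _ at h1
  have h2 : aeval (RatFunc.C Q * RatFunc.X) f.charpoly =
      (-1) ^ n * RatFunc.C (LinearMap.det f) * algebraMap (Polynomial K) (RatFunc K) R := by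
    have h3 := congrArg (algebraMap (Polynomial K) (RatFunc K)) h
    rw [map_mul, map_pow, map_neg, map_one, Polynomial.smul_eq_C_mul, map_mul, RatFunc.algebraMap_C] at h3
    rw [mul_assoc, h3, ← mul_assoc, ← mul_pow, neg_one_mul, neg_neg, one_pow, one_mul, Polynomial.comp, Polynomial.hom_eval₂]
    simp [Polynomial.aeval_def, RingHom.comp_assoc, ← Polynomial.algebraMap_eq, ← IsScalarTower.algebraMap_eq]
  rw [h2] at h1
  rw [mul_right_comm, ← h1, mul_inv_cancel_right₀ (pow_ne_zero _ hy)]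

theorem functional_equation (d : ℕ) (M : ℕ → Type w) [∀ i, AddCommGroup (M i)] [∀ i, Module K (M i)]
    [∀ i, FiniteDimensional K (M i)] (F : ∀ i, M i →ₗ[K] M i) (q : K) (hq : q ≠ 0) (b : ℕ → ℕ)
    (hb : ∀ i, Module.finrank K (M i) = b i)
    (hdet : ∀ i, i ≤ 2 * d → LinearMap.det (F (2 * d - i)) * LinearMap.det (F i) = (q ^ d) ^ b i)
    (hrev : ∀ i, i ≤ 2 * d → LinearMap.det (F i) • (F (2 * d - i)).charpoly.reverse =
      (-1 : Polynomial K) ^ b i * (F i).charpoly.comp (C (q ^ d) * X))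
    (heven : Even ((d : ℤ) * ∑ i ∈ Finset.range (2 * d + 1), (-1 : ℤ) ^ i * (b i : ℤ))) :
    ∃ ε : K, (ε = 1 ∨ ε = -1) ∧
      aeval ((RatFunc.X : RatFunc K)⁻¹ * RatFunc.C (q ^ d)⁻¹) (∏ i ∈ Finset.range d, (F (2 * i + 1)).charpoly.reverse) /
        aeval ((RatFunc.X : RatFunc K)⁻¹ * RatFunc.C (q ^ d)⁻¹) (∏ i ∈ Finset.range (d + 1), (F (2 * i)).charpoly.reverse) =
      RatFunc.C ε * RatFunc.C q ^ ((d : ℤ) * (∑ i ∈ Finset.range (2 * d + 1), (-1 : ℤ) ^ i * (b i : ℤ)) / 2) *
        (RatFunc.X : RatFunc K) ^ (∑ i ∈ Finset.range (2 * d + 1), (-1 : ℤ) ^ i * (b i : ℤ)) *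
        (algebraMap (Polynomial K) (RatFunc K) (∏ i ∈ Finset.range d, (F (2 * i + 1)).charpoly.reverse) /
         algebraMap (Polynomial K) (RatFunc K) (∏ i ∈ Finset.range (d + 1), (F (2 * i)).charpoly.reverse)) := by
  classical
  set E := ∑ i ∈ Finset.range (2 * d + 1), (-1 : ℤ) ^ i * (b i : ℤ) with hE
  set Q := q ^ d with hQdef
  have hQ : Q ≠ 0 := pow_ne_zero _ hq
  let D : ℕ → K := fun i => LinearMap.det (F i)
  let R : ℕ → RatFunc K := fun i => algebraMap (Polynomial K) (RatFunc K) (F i).charpoly.reverse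
  let bo := ∑ j ∈ Finset.range d, b (2 * j + 1)
  let be := ∑ j ∈ Finset.range (d + 1), b (2 * j)
  have hEb : E = (be : ℤ) - bo := by
    rw [hE, sum_range_parity (fun i => (b i : ℤ))]
    simp [be, bo]
  have hfac : ∀ i, i ≤ 2 * d → aeval ((RatFunc.X : RatFunc K)⁻¹ * RatFunc.C Q⁻¹) (F i).charpoly.reverse =
      (-1) ^ b i * RatFunc.C (D i) * ((RatFunc.C Q * RatFunc.X) ^ b i)⁻¹ * R (2 * d - i) :=
    fun i hi => aeval_inv_reverse (F i) _ Q hQ _ (hb i) (hrev i hi)
  have hodd : aeval ((RatFunc.X : RatFunc K)⁻¹ * RatFunc.C Q⁻¹) (∏ i ∈ Finset.range d, (F (2 * i + 1)).charpoly.reverse) =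
      (-1) ^ bo * RatFunc.C (∏ j ∈ Finset.range d, D (2 * j + 1)) * ((RatFunc.C Q * RatFunc.X) ^ bo)⁻¹ *
        ∏ i ∈ Finset.range d, R (2 * i + 1) := by
    rw [map_prod, Finset.prod_congr rfl fun j hj => hfac (2 * j + 1) (by have := Finset.mem_range.1 hj; omega),
      Finset.prod_mul_distrib, Finset.prod_mul_distrib, Finset.prod_mul_distrib, Finset.prod_pow_eq_pow_sum,
      Finset.prod_inv_distrib, Finset.prod_pow_eq_pow_sum, map_prod]
    congr 1
    rw [← Finset.prod_range_reflect (fun i => R (2 * i + 1))]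
    refine Finset.prod_congr rfl fun j hj => congrArg R ?_
    have := Finset.mem_range.1 hj
    omega
  have heve : aeval ((RatFunc.X : RatFunc K)⁻¹ * RatFunc.C Q⁻¹) (∏ i ∈ Finset.range (d + 1), (F (2 * i)).charpoly.reverse) =
      (-1) ^ be * RatFunc.C (∏ j ∈ Finset.range (d + 1), D (2 * j)) * ((RatFunc.C Q * RatFunc.X) ^ be)⁻¹ *
        ∏ i ∈ Finset.range (d + 1), R (2 * i) := by
    rw [map_prod, Finset.prod_congr rfl fun j hj => hfac (2 * j) (by have := Finset.mem_range.1 hj; omega),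
      Finset.prod_mul_distrib, Finset.prod_mul_distrib, Finset.prod_mul_distrib, Finset.prod_pow_eq_pow_sum,
      Finset.prod_inv_distrib, Finset.prod_pow_eq_pow_sum, map_prod]
    congr 1
    rw [← Finset.prod_range_reflect (fun i => R (2 * i))]
    refine Finset.prod_congr rfl fun j hj => congrArg R ?_
    have := Finset.mem_range.1 hj
    omega
  set Do := ∏ j ∈ Finset.range d, D (2 * j + 1) with hDo
  set De := ∏ j ∈ Finset.range (d + 1), D (2 * j) with hDe
  have ho2 : Do ^ 2 = Q ^ bo := prod_compl_sq _ (fun j => D (2 * j + 1)) Q (fun j => b (2 * j + 1)) fun j hj => by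
    have := hdet (2 * j + 1) (by omega)
    rwa [show 2 * d - (2 * j + 1) = 2 * (d - 1 - j) + 1 by omega] at this
  have he2 : De ^ 2 = Q ^ be := prod_compl_sq _ (fun j => D (2 * j)) Q (fun j => b (2 * j)) fun j hj => by
    have := hdet (2 * j) (by omega)
    rwa [show 2 * d - 2 * j = 2 * (d + 1 - 1 - j) by omega] at this
  obtain ⟨m, hm⟩ := heven
  have hsq : (Do / De * Q ^ E) ^ 2 = (q ^ m) ^ 2 := by
    rw [mul_pow, div_pow, ho2, he2, hEb, zpow_sub₀ hQ, zpow_natCast, zpow_natCast, div_pow, ← zpow_natCast (q ^ m) 2,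
      ← zpow_mul, show m * ((2 : ℕ) : ℤ) = (d : ℤ) * ((be : ℤ) - bo) by rw [← hEb, hm]; push_cast; ring, zpow_mul,
      zpow_natCast, ← hQdef, zpow_sub₀ hQ, zpow_natCast, zpow_natCast]
    have := pow_ne_zero be hQ
    have := pow_ne_zero bo hQ
    field_simp
  have hm2 : (d : ℤ) * E / 2 = m := by omega
  obtain ⟨δ, hδ, hδm⟩ : ∃ δ : K, (δ = 1 ∨ δ = -1) ∧ Do / De * Q ^ E = δ * q ^ m := by
    rcases sq_eq_sq_iff_eq_or_eq_neg.1 hsq with h | h
    · exact ⟨1, Or.inl rfl, by rw [h, one_mul]⟩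
    · exact ⟨-1, Or.inr rfl, by rw [h, neg_one_mul]⟩
  refine ⟨(-1) ^ (bo + be) * δ, ?_, ?_⟩
  · rcases neg_one_pow_eq_or K (bo + be) with h | h <;> rcases hδ with h' | h' <;> simp [h, h']
  rw [hodd, heve, hm2, map_prod (algebraMap (Polynomial K) (RatFunc K)), map_prod (algebraMap (Polynomial K) (RatFunc K))]
  change _ = _ * _ * _ * ((∏ i ∈ Finset.range d, R (2 * i + 1)) / ∏ i ∈ Finset.range (d + 1), R (2 * i))
  rw [← map_zpow₀, mul_assoc (RatFunc.C ((-1) ^ (bo + be) * δ)), map_mul, mul_assoc (RatFunc.C _) (RatFunc.C δ),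
    ← mul_assoc (RatFunc.C δ), ← map_mul, ← hδm, map_mul, map_div₀, map_zpow₀, hEb, show RatFunc.C ((-1 : K) ^ (bo + be)) = ((-1) ^ (bo + be) : RatFunc K) by simp]
  have hC : RatFunc.C Q ≠ (0 : RatFunc K) := by simpa using hQ
  have hX : (RatFunc.X : RatFunc K) ≠ 0 := RatFunc.X_ne_zero
  have hy : RatFunc.C Q * RatFunc.X ≠ (0 : RatFunc K) := mul_ne_zero hC hX
  have hyE : RatFunc.C Q ^ ((be : ℤ) - bo) * RatFunc.X ^ ((be : ℤ) - bo) =
      (RatFunc.C Q * RatFunc.X) ^ be / (RatFunc.C Q * RatFunc.X) ^ bo := by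
    rw [← mul_zpow, zpow_sub₀ hy, zpow_natCast, zpow_natCast]
  rw [mul_assoc (RatFunc.C Do / RatFunc.C De) (RatFunc.C Q ^ _), hyE, pow_add]
  have h1 : ((-1 : RatFunc K) ^ be)⁻¹ = (-1) ^ be := by
    rw [← inv_pow, inv_neg, inv_one]
  simp only [div_eq_mul_inv, mul_inv_rev, inv_inv, h1]
  ring

end FunctionalEquation

end Groth.Agent.WeilCohLib
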