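import Groth.Agent.WeilCohLib.Kunneth
import Mathlib.LinearAlgebra.Trace

/-!
# Correspondences: bijectivity, trace of a composite
-/

set_option autoImplicit false
set_option backward.isDefEq.respectTransparency.types false
set_option linter.style.haveILetI false

universe u v w

open CategoryTheory AlgebraicGeometry

namespace Groth.Agent.WeilCohLib

variable {k : Type u} [Field k] {K : Type v} [Field K]
variable {T : WeilCoh.TheoryOn.{u, v, w} k (WeilCoh.IsVar k) K}

/-- the action of a class on the product, degree by degree -/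
noncomputable def corr (T : WeilCoh.TheoryOn.{u, v, w} k (WeilCoh.IsVar k) K) {X Y P : WeilCoh.Var k}
    (p : P ⟶ X) (q : P ⟶ Y) (n i : ℤ) : T.gr P n →ₗ[K] T.gr X i →ₗ[K] T.gr Y (i + n + dd Y - dd P) where
  toFun φ := T.push q (i + n) ∘ₗ
    ((LinearMap.mulRight K (φ : T.H P)).restrict (p := T.gr P i) (q := T.gr P (i + n))
      (fun _ hx => SetLike.mul_mem_graded hx φ.2)) ∘ₗ T.pullDeg p i
  map_add' φ φ' := by
    refine LinearMap.ext fun a => ?_
    simp only [LinearMap.comp_apply, LinearMap.add_apply, ← map_add]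
    exact congrArg (T.push q (i + n)) (Subtype.ext (mul_add _ _ _))
  map_smul' c φ := by
    refine LinearMap.ext fun a => ?_
    simp only [LinearMap.comp_apply, LinearMap.smul_apply, RingHom.id_apply]
    refine (congrArg (T.push q (i + n)) ?_).trans (map_smul _ _ _)
    exact Subtype.ext (mul_smul_comm _ _ _)

theorem corr_mem {X P : WeilCoh.Var k} {p : P ⟶ X} {n i : ℤ} (φ : T.gr P n) (a : T.gr X i) :
    T.pull p (a : T.H X) * φ ∈ T.gr P (i + n) :=
  SetLike.mul_mem_graded (T.pull_mem p i a a.2) φ.2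

theorem corr_apply {X Y P : WeilCoh.Var k} (p : P ⟶ X) (q : P ⟶ Y) (n i : ℤ) (φ : T.gr P n) (a : T.gr X i) :
    corr T p q n i φ a = T.push q (i + n) ⟨_, corr_mem (p := p) φ a⟩ := rfl

theorem push_decomposable {X Y P : WeilCoh.Var k} {p : P ⟶ X} {q : P ⟶ Y} (hP : WeilCoh.IsProd p q)
    {n s t : ℤ} (hn : n = s + t) (a : T.H X) (ha : a ∈ T.gr X s) (b : T.H Y) (hb : b ∈ T.gr Y t)
    (x : T.gr P n) (hx : (x : T.H P) = T.pull p a * T.pull q b) :
    (T.push q n x : T.H Y) = T.tr X a • b := by
  have hd := dd_prod hP T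
  refine push_eq q n x ?_ fun β _ => ?_
  · by_cases hs : s = dd X
    · refine Submodule.smul_mem _ _ ?_
      convert hb using 2
      omega
    · rw [T.tr_vanish X s a ha hs, zero_smul]; exact zero_mem _
  · rw [hx, mul_assoc, ← map_mul, tr_kunneth hP, smul_mul_assoc, map_smul, smul_eq_mul]

theorem isProd_flip {X Y P : WeilCoh.Var k} {p : P ⟶ X} {q : P ⟶ Y} (hP : WeilCoh.IsProd p q) :
    WeilCoh.IsProd q p := hP.flip

theorem gr_le_span {X Y P : WeilCoh.Var k} {p : P ⟶ X} {q : P ⟶ Y} (hP : WeilCoh.IsProd p q) (n : ℤ) :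
    T.gr P n ≤ Submodule.span K {z | ∃ (s t : ℤ) (a : T.H X) (b : T.H Y), a ∈ T.gr X s ∧ b ∈ T.gr Y t ∧
      n = s + t ∧ z = T.pull p a * T.pull q b} := by
  set W := Submodule.span K {z | ∃ (s t : ℤ) (a : T.H X) (b : T.H Y), a ∈ T.gr X s ∧ b ∈ T.gr Y t ∧
      n = s + t ∧ z = T.pull p a * T.pull q b} with hW
  set R := ⨆ j, ⨆ (_ : j ≠ n), T.gr P j with hR
  have hWle : W ≤ T.gr P n := Submodule.span_le.2 fun z ⟨s, t, a, b, ha, hb, hn, hz⟩ => by
    subst hz hn
    exact SetLike.mul_mem_graded (T.pull_mem p s a ha) (T.pull_mem q t b hb)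
  have htop : ∀ z : T.H P, z ∈ W ⊔ R := fun z => by
    obtain ⟨t, rfl⟩ := (T.kunneth p q hP).2 z
    induction t using TensorProduct.induction_on with
    | zero => simp
    | add a b ha hb => rw [map_add]; exact add_mem ha hb
    | tmul a b =>
      show T.pull p a * T.pull q b ∈ W ⊔ R
      induction a using homogeneous_induction with
      | zero => simp
      | add a a' ha ha' => rw [map_add, add_mul]; exact add_mem ha ha'
      | mem s a ha =>
        induction b using homogeneous_induction with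
        | zero => simp
        | add b b' hb hb' => rw [map_add, mul_add]; exact add_mem hb hb'
        | mem t b hb =>
          by_cases hn : n = s + t
          · exact Submodule.mem_sup_left (Submodule.subset_span ⟨s, t, a, b, ha, hb, hn, rfl⟩)
          · exact Submodule.mem_sup_right (Submodule.mem_iSup_of_mem (s + t)
              (Submodule.mem_iSup_of_mem (Ne.symm hn)
                (SetLike.mul_mem_graded (T.pull_mem p s a ha) (T.pull_mem q t b hb))))
  intro x hx
  obtain ⟨w, hw, r, hr, hwr⟩ := Submodule.mem_sup.1 (htop x)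
  have hr0 : r = 0 := Submodule.disjoint_def.1 ((T.decomp P).submodule_iSupIndep n) r
    (by rw [← hwr] at hx; simpa using sub_mem hx (hWle hw)) hr
  rw [← hwr, hr0, add_zero]
  exact hw

theorem span_induction_gr {X Y P : WeilCoh.Var k} {p : P ⟶ X} {q : P ⟶ Y} (hP : WeilCoh.IsProd p q) {n : ℤ}
    {motive : T.gr P n → Prop} (zero : motive 0) (add : ∀ a b, motive a → motive b → motive (a + b))
    (smul : ∀ (c : K) a, motive a → motive (c • a))
    (mem : ∀ (s t : ℤ) (a : T.H X) (b : T.H Y), a ∈ T.gr X s → b ∈ T.gr Y t → n = s + t →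
      ∀ x : T.gr P n, (x : T.H P) = T.pull p a * T.pull q b → motive x) (x : T.gr P n) : motive x := by
  suffices h : ∀ z ∈ Submodule.span K {z | ∃ (s t : ℤ) (a : T.H X) (b : T.H Y), a ∈ T.gr X s ∧ b ∈ T.gr Y t ∧
      n = s + t ∧ z = T.pull p a * T.pull q b}, ∀ hz : z ∈ T.gr P n, motive ⟨z, hz⟩ from
    h x (gr_le_span hP n x.2) x.2
  have hle : Submodule.span K {z | ∃ (s t : ℤ) (a : T.H X) (b : T.H Y), a ∈ T.gr X s ∧ b ∈ T.gr Y t ∧
      n = s + t ∧ z = T.pull p a * T.pull q b} ≤ T.gr P n := Submodule.span_le.2 fun z ⟨s, t, a, b, ha, hb, hn, hz⟩ => by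
    subst hz hn
    exact SetLike.mul_mem_graded (T.pull_mem p s a ha) (T.pull_mem q t b hb)
  intro z hz
  induction hz using Submodule.span_induction with
  | mem z hz =>
    obtain ⟨s, t, a, b, ha, hb, hn, rfl⟩ := hz
    exact fun h => mem s t a b ha hb hn _ rfl
  | zero => exact fun _ => zero
  | add a b ha hb iha ihb => exact fun _ => add _ _ (iha (hle ha)) (ihb (hle hb))
  | smul c a ha iha => exact fun _ => smul c _ (iha (hle ha))

theorem tr_corr_mul {X Y P : WeilCoh.Var k} (p : P ⟶ X) (q : P ⟶ Y) (n i : ℤ) (φ : T.gr P n) (a : T.gr X i)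
    {b : T.H Y} (hb : b ∈ T.gr Y (dd P - (i + n))) :
    T.tr Y ((corr T p q n i φ a : T.H Y) * b) =
      sgn K i n * T.tr P (φ * (T.pull p a * T.pull q b)) := by
  rw [corr_apply, tr_push q (i + n) _ hb]
  show T.tr P (T.pull p (a : T.H X) * φ * T.pull q b) = _
  rw [comm_sgn (T.pull_mem p i a a.2) φ.2, smul_mul_assoc, map_smul, smul_eq_mul, mul_assoc]

theorem sgn_mul_self (i j : ℤ) : sgn K i j * sgn K i j = 1 := by
  rw [sgn_eq]; split_ifs <;> ring

theorem corr_bijective {X Y P : WeilCoh.Var k} (p : P ⟶ X) (q : P ⟶ Y) (hP : WeilCoh.IsProd p q) (n : ℤ) :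
    Function.Bijective (fun φ : T.gr P n => fun i : ℤ => corr T p q n i φ) := by
  classical
  refine ⟨fun φ φ' h => Subtype.ext (eq_of_forall_tr_prod hP φ.2 φ'.2 fun i j a b ha hb hs => ?_), fun L => ?_⟩
  · have hb' : b ∈ T.gr Y (dd P - (i + n)) := by convert hb using 2; omega
    have h' := congrArg (fun c : T.gr Y (i + n + dd Y - dd P) => T.tr Y ((c : T.H Y) * b))
      (LinearMap.congr_fun (congrFun h i) ⟨a, ha⟩)
    dsimp only at h'
    rw [tr_corr_mul p q n i φ ⟨a, ha⟩ hb', tr_corr_mul p q n i φ' ⟨a, ha⟩ hb'] at h'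
    exact mul_left_cancel₀ (left_ne_zero_of_mul_eq_one (sgn_mul_self i n)) h'
  · let Lt : T.H X →ₗ[K] T.H Y :=
      (DirectSum.toModule K ℤ (T.H Y) fun i => sgn K i n • ((T.gr Y _).subtype ∘ₗ L i)) ∘ₗ
        (LinearEquiv.ofBijective (DirectSum.coeLinearMap (T.gr X)) (T.decomp X)).symm.toLinearMap
    have hLt : ∀ (i : ℤ) (a : T.gr X i), Lt a = sgn K i n • (L i a : T.H Y) := fun i a => by
      have : (LinearEquiv.ofBijective (DirectSum.coeLinearMap (T.gr X)) (T.decomp X)).symm (a : T.H X) =
          DirectSum.lof K ℤ (fun i => T.gr X i) i a :=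
        (LinearEquiv.symm_apply_eq _).2 (DirectSum.coeLinearMap_of _ _ _).symm
      simp only [Lt, LinearMap.comp_apply, LinearEquiv.coe_coe, this, DirectSum.toModule_lof]
      rfl
    let Λ : TensorProduct K (T.H X) (T.H Y) →ₗ[K] K :=
      TensorProduct.lift (((LinearMap.mul K (T.H Y)).comp Lt).compr₂ (T.tr Y))
    let Λ' : T.gr P (dd P - n) →ₗ[K] K :=
      Λ ∘ₗ (LinearEquiv.ofBijective _ (T.kunneth p q hP)).symm.toLinearMap ∘ₗ (T.gr P (dd P - n)).subtype
    haveI := T.duality P n (dd P - n) (by simp [dd])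
    let φ := (WeilCoh.pairing K (T.gr P n) (T.gr P (dd P - n)) (T.tr P)).toPerfPair.symm Λ'
    refine ⟨φ, funext fun i => LinearMap.ext fun a => Subtype.ext ?_⟩
    refine eq_of_forall_tr (corr T p q n i φ a).2 (L i a).2 fun b hb => ?_
    have hb' : b ∈ T.gr Y (dd P - (i + n)) := by convert hb using 2; omega
    rw [tr_corr_mul p q n i φ a hb']
    have hm : T.pull p (a : T.H X) * T.pull q b ∈ T.gr P (dd P - n) := by
      convert SetLike.mul_mem_graded (T.pull_mem p i a a.2) (T.pull_mem q _ b hb') using 2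
      ring
    have h1 : T.tr P ((φ : T.H P) * (T.pull p (a : T.H X) * T.pull q b)) = Λ' ⟨_, hm⟩ :=
      LinearMap.congr_fun
        ((WeilCoh.pairing K (T.gr P n) (T.gr P (dd P - n)) (T.tr P)).toPerfPair.apply_symm_apply Λ') ⟨_, hm⟩
    have h2 : (LinearEquiv.ofBijective _ (T.kunneth p q hP)).symm (T.pull p (a : T.H X) * T.pull q b) =
        (a : T.H X) ⊗ₜ[K] b := (LinearEquiv.symm_apply_eq _).2 rfl
    rw [h1]
    simp only [Λ', LinearMap.comp_apply, Submodule.subtype_apply, LinearEquiv.coe_coe, h2, Λ,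
      TensorProduct.lift.tmul, LinearMap.compr₂_apply, hLt, map_smul]
    rw [LinearMap.smul_apply, LinearMap.mul_apply', map_smul, smul_eq_mul, ← mul_assoc, sgn_mul_self, one_mul]

theorem cast_coe {X : WeilCoh.Var k} {i j : ℤ} (h : T.gr X i = T.gr X j) (x : T.gr X i) :
    ((LinearEquiv.ofEq _ _ h x : T.gr X j) : T.H X) = x := rfl

theorem tr_mul_pull_swap {X Y P P' : WeilCoh.Var k} (p : P ⟶ X) (q : P ⟶ Y) (hP : WeilCoh.IsProd p q)
    (p' : P' ⟶ Y) (q' : P' ⟶ X) (hP' : WeilCoh.IsProd p' q') (σ : P ⟶ P') (hσ₁ : σ ≫ p' = q)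
    (hσ₂ : σ ≫ q' = p) (n m : ℤ) (hnm : n + m = dd X + dd Y)
    (hdim : ∀ i : ℤ, (i + n + dd Y - dd P) + m + dd X - dd P' = i)
    (φ : T.gr P n) (ψ : T.gr P' m) :
    T.tr P ((φ : T.H P) * T.pull σ (ψ : T.H P')) =
      ∑ i ∈ Finset.range (2 * WeilCoh.dim X.obj.left + 1),
        (-1 : K) ^ i * LinearMap.trace K ↥(T.gr X (i : ℤ))
          ((LinearEquiv.ofEq _ _ (congrArg (T.gr X) (hdim (i : ℤ)))).toLinearMap ∘ₗ
            corr T p' q' m _ ψ ∘ₗ corr T p q n (i : ℤ) φ) := by
  classical
  induction φ using span_induction_gr hP with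
  | zero => simp
  | add a b ha hb =>
    simp only [Submodule.coe_add, add_mul, map_add, LinearMap.comp_add, ha, hb, mul_add, Finset.sum_add_distrib]
  | smul c a ha =>
    simp only [Submodule.coe_smul, smul_mul_assoc, map_smul, LinearMap.comp_smul, ha, smul_eq_mul, Finset.mul_sum]
    exact Finset.sum_congr rfl fun i _ => by ring
  | mem s t c e hc he hn φ hφ =>
    induction ψ using span_induction_gr hP' with
    | zero => simp
    | add a b ha hb =>
      simp only [Submodule.coe_add, mul_add, map_add, LinearMap.add_comp, LinearMap.comp_add, ha, hb,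
        Finset.sum_add_distrib]
    | smul d a ha =>
      simp only [Submodule.coe_smul, mul_smul_comm, map_smul, LinearMap.smul_comp, LinearMap.comp_smul, ha,
        smul_eq_mul, Finset.mul_sum]
      exact Finset.sum_congr rfl fun i _ => by ring
    | mem u v g h hg hh hm ψ hψ =>
      have hσp : ∀ y, T.pull σ (T.pull p' y) = T.pull q y := fun y => pull_pull hσ₁ y
      have hσq : ∀ y, T.pull σ (T.pull q' y) = T.pull p y := fun y => pull_pull hσ₂ y
      have hLHS : T.tr P ((φ : T.H P) * T.pull σ (ψ : T.H P')) =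
          sgn K u v * (sgn K t v * (T.tr X (c * h) * T.tr Y (e * g))) := by
        rw [hφ, hψ, map_mul (T.pull σ), hσp, hσq, comm_sgn (T.pull_mem q u g hg) (T.pull_mem p v h hh), mul_smul_comm,
          map_smul, smul_eq_mul, tr_mul_kunneth hP c h e g he hh]
      have hval : ∀ (i : ℤ) (a : T.gr X i),
          (((LinearEquiv.ofEq _ _ (congrArg (T.gr X) (hdim i))).toLinearMap ∘ₗ
            corr T p' q' m _ ψ ∘ₗ corr T p q n i φ) a : T.H X) =
          (T.tr X ((a : T.H X) * c) * T.tr Y (e * g)) • h := by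
        intro i a
        have h1 : (corr T p q n i φ a : T.H Y) = T.tr X ((a : T.H X) * c) • e :=
          push_decomposable hP (s := i + s) (t := t) (by omega) _ (SetLike.mul_mem_graded a.2 hc) e he _
            (by show T.pull p (a : T.H X) * φ = _; rw [hφ, ← mul_assoc, ← map_mul])
        simp only [LinearMap.comp_apply, LinearEquiv.coe_coe]
        rw [cast_coe]
        refine (push_decomposable hP' (s := (i + n + dd Y - dd P) + u) (t := v) (by omega) _
          (SetLike.mul_mem_graded (corr T p q n i φ a).2 hg) h hh _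
          (by show T.pull p' (corr T p q n i φ a : T.H Y) * ψ = _; rw [hψ, ← mul_assoc, ← map_mul])).trans ?_
        rw [h1, smul_mul_assoc, map_smul, smul_eq_mul]
      rw [hLHS]
      by_cases hv : 0 ≤ v ∧ v ≤ dd X
      · obtain ⟨i₀, rfl⟩ : ∃ i₀ : ℕ, v = (i₀ : ℤ) := ⟨v.toNat, (Int.toNat_of_nonneg hv.1).symm⟩
        rw [Finset.sum_eq_single i₀]
        · have hM : (LinearEquiv.ofEq _ _ (congrArg (T.gr X) (hdim (i₀ : ℤ)))).toLinearMap ∘ₗ
              corr T p' q' m _ ψ ∘ₗ corr T p q n (i₀ : ℤ) φ =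
              ((T.tr X ∘ₗ LinearMap.mulRight K c ∘ₗ (T.gr X (i₀ : ℤ)).subtype).smulRight
                (T.tr Y (e * g) • (⟨h, hh⟩ : T.gr X (i₀ : ℤ)))) := by
            refine LinearMap.ext fun a => Subtype.ext ?_
            rw [hval]
            simp [mul_smul]
          rw [hM, LinearMap.trace_smulRight]
          show _ = (-1 : K) ^ i₀ * T.tr X (((T.tr Y (e * g) • (⟨h, hh⟩ : T.gr X (i₀ : ℤ)) : T.gr X (i₀ : ℤ)) : T.H X) * c)
          rw [Submodule.coe_smul, smul_mul_assoc, map_smul, smul_eq_mul]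
          by_cases hs : s + (i₀ : ℤ) = dd X
          · rw [comm_sgn hc hh, map_smul, smul_eq_mul]
            have hsg : sgn K u (i₀ : ℤ) * sgn K t (i₀ : ℤ) * sgn K s (i₀ : ℤ) = (-1) ^ i₀ := by
              simp only [sgn_eq]
              rcases Nat.even_or_odd i₀ with h' | h'
              · simp [h', h'.neg_one_pow]
              · have h1 : ¬ Even (i₀ : ℤ) := by simpa [Int.even_coe_nat] using h'
                have hs' : ¬ Even s := by
                  rw [show s = dd X - (i₀ : ℤ) by omega, Int.even_sub]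
                  simp [dd, h1]
                have htu : Even t ↔ Even u := by
                  have : t + u = dd Y := by omega
                  rw [show t = dd Y - u by omega, Int.even_sub]
                  simp [dd]
                simp only [h'.neg_one_pow, h1, hs', htu, or_false, if_false]
                split_ifs <;> ring
            rw [← hsg]
            ring
          · rw [T.tr_vanish X _ _ (SetLike.mul_mem_graded hc hh) hs,
              T.tr_vanish X _ _ (SetLike.mul_mem_graded hh hc) (by simp only [dd] at hs; omega)]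
            ring
        · intro i _ hi
          rw [show (LinearEquiv.ofEq _ _ (congrArg (T.gr X) (hdim (i : ℤ)))).toLinearMap ∘ₗ
              corr T p' q' m _ ψ ∘ₗ corr T p q n (i : ℤ) φ = 0 from ?_, map_zero, mul_zero]
          refine LinearMap.ext fun a => Subtype.ext ?_
          refine Submodule.disjoint_def.1 ((T.decomp X).submodule_iSupIndep (i : ℤ)) _ (Subtype.mem _) ?_
          rw [hval]
          exact Submodule.mem_iSup_of_mem (i₀ : ℤ) (Submodule.mem_iSup_of_mem (by omega) (Submodule.smul_mem _ _ hh))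
        · intro h'; exact absurd (Finset.mem_range.2 (by simp only [dd] at hv; omega)) h'
      · have h0 : h = 0 := (Submodule.mem_bot K).1 (T.vanish X v (by simp only [dd] at *; omega) ▸ hh)
        have hz : ∀ i : ℕ, (LinearEquiv.ofEq _ _ (congrArg (T.gr X) (hdim (i : ℤ)))).toLinearMap ∘ₗ
              corr T p' q' m _ ψ ∘ₗ corr T p q n (i : ℤ) φ = 0 := fun i =>
          LinearMap.ext fun a => Subtype.ext (by rw [hval, h0, smul_zero]; rfl)
        rw [Finset.sum_eq_zero fun i _ => by rw [hz, map_zero, mul_zero]]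
        simp [h0]

end Groth.Agent.WeilCohLib
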