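import Groth.Agent.WeilCohLib.Corr
import Mathlib.LinearAlgebra.Charpoly.Basic
import Mathlib.RingTheory.Coprime.Lemmas

/-!
# Künneth projectors from coprime characteristic polynomials; nilpotent correspondences
-/

set_option autoImplicit false
set_option backward.isDefEq.respectTransparency.types false
set_option linter.style.haveILetI false

universe u v w

open CategoryTheory AlgebraicGeometry

namespace Groth.Agent.WeilCohLib

variable {k : Type u} [Field k] {K : Type v} [Field K]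
variable {T : WeilCoh.TheoryOn.{u, v, w} k (WeilCoh.IsVar k) K}

theorem var_hom_ext {X P Q : WeilCoh.Var k} {p : P ⟶ X} {Y : WeilCoh.Var k} {q : P ⟶ Y}
    (hP : WeilCoh.IsProd p q) {a b : Q ⟶ P} (h₁ : a ≫ p = b ≫ p) (h₂ : a ≫ q = b ≫ q) : a = b := by
  refine ObjectProperty.hom_ext _ (Over.OverMorphism.ext ?_)
  exact IsPullback.hom_ext hP (congrArg (fun f : Q ⟶ X => f.hom.left) h₁) (congrArg (fun f : Q ⟶ Y => f.hom.left) h₂)

theorem exists_lift {X Y P Q : WeilCoh.Var k} {p : P ⟶ X} {q : P ⟶ Y} (hP : WeilCoh.IsProd p q)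
    (a : Q ⟶ X) (b : Q ⟶ Y) : ∃ j : Q ⟶ P, j ≫ p = a ∧ j ≫ q = b := by
  let l := IsPullback.lift hP (WeilCoh.sm a) (WeilCoh.sm b) (by rw [sm_w, sm_w])
  have hl : l ≫ P.obj.hom = Q.obj.hom := by
    rw [← sm_w p, ← Category.assoc, IsPullback.lift_fst, sm_w]
  refine ⟨ObjectProperty.homMk (Over.homMk l hl), ?_, ?_⟩
  · exact ObjectProperty.hom_ext _ (Over.OverMorphism.ext (IsPullback.lift_fst _ _ _ _))
  · exact ObjectProperty.hom_ext _ (Over.OverMorphism.ext (IsPullback.lift_snd _ _ _ _))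

theorem pull_pow {X : WeilCoh.Var k} (F : End X) : ∀ (m : ℕ) (a : T.H X),
    T.pull (X := X) (Y := X) (F ^ m) a = ((T.pull (X := X) (Y := X) F).toLinearMap ^ m) a
  | 0, a => by
    rw [pow_zero, pow_zero]
    exact AlgHom.congr_fun (T.pull_id X) a
  | m + 1, a => by
    rw [pow_succ, pow_succ', Module.End.mul_apply, ← pull_pow F m a]
    exact AlgHom.congr_fun (T.pull_comp (X := X) (Y := X) (Z := X) F (F ^ m)) a

theorem pullDeg_pow_apply {X : WeilCoh.Var k} (F : X ⟶ X) (j : ℤ) : ∀ (m : ℕ) (b : T.gr X j),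
    (((T.pullDeg F j) ^ m) b : T.H X) = (((T.pull F).toLinearMap ^ m) (b : T.H X))
  | 0, b => rfl
  | m + 1, b => by
    rw [pow_succ', pow_succ', Module.End.mul_apply, Module.End.mul_apply, ← pullDeg_pow_apply F j m b]
    rfl

theorem corr_graph {X P : WeilCoh.Var k} {p q : P ⟶ X} (hP : WeilCoh.IsProd p q) (φ : X ⟶ X) (j : X ⟶ P)
    (hjp : j ≫ p = φ) (hjq : j ≫ q = 𝟙 X) (hm : T.cl P (WeilCoh.sm j (genericPoint X.obj.left)) ∈ T.gr P (dd X))
    (i : ℤ) (b : T.gr X i) :
    (corr T p q (dd X) i ⟨_, hm⟩ b : T.H X) = T.pull φ (b : T.H X) := by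
  have hd := dd_prod hP T
  refine eq_of_forall_tr (corr T p q (dd X) i ⟨_, hm⟩ b).2 (i := i + dd X + dd X - dd P) ?_ fun β hβ => ?_
  · convert T.pull_mem φ i b b.2 using 2
    omega
  · have hβ' : β ∈ T.gr X (dd P - (i + dd X)) := by convert hβ using 2; omega
    rw [tr_corr_mul p q (dd X) i _ b hβ']
    have hm' : T.pull p (b : T.H X) * T.pull q β ∈ T.gr P (dd X) := by
      convert SetLike.mul_mem_graded (T.pull_mem p i b b.2) (T.pull_mem q _ β hβ') using 2
      omega
    rw [cl_graph_mul hjq hm', map_mul, pull_pull hjp, pull_pull_id hjq, sgn_eq,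
      if_pos (Or.inr (even_two_mul _)), one_mul]

theorem exists_kunneth_projector {X P : WeilCoh.Var k} (p q : P ⟶ X) (hP : WeilCoh.IsProd p q) (F : X ⟶ X)
    (hF : ∀ i j : ℤ, i ≠ j → IsCoprime (T.pullDeg F i).charpoly (T.pullDeg F j).charpoly) (i : ℤ) :
    ∃ u : T.gr P (dd X), (u : T.H P) ∈ Submodule.span K (Set.range (T.cl P)) ∧
      ∀ (j : ℤ) (b : T.gr X j), (corr T p q (dd X) j u b : T.H X) = if j = i then (b : T.H X) else 0 := by
  classical
  by_cases hi : 0 ≤ i ∧ i ≤ dd X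
  swap
  · refine ⟨0, zero_mem _, fun j b => ?_⟩
    rw [map_zero]
    split_ifs with h
    · subst h
      exact ((Submodule.mem_bot K).1 (T.vanish X j (by simp only [dd] at hi; omega) ▸ b.2)).symm
    · rfl
  let S : Finset ℤ := (Finset.Icc 0 (dd X)).erase i
  obtain ⟨a, b', hab⟩ := IsCoprime.prod_right (s := fun j => (T.pullDeg F j).charpoly)
    (x := (T.pullDeg F i).charpoly) (t := S) fun j hj => hF i j (Finset.ne_of_mem_erase hj).symm
  let R := b' * ∏ j ∈ S, (T.pullDeg F j).charpoly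
  have hR1 : Polynomial.aeval (T.pullDeg F i) R = 1 := by
    have := congrArg (Polynomial.aeval (T.pullDeg F i)) hab
    rwa [map_add, map_one, map_mul, LinearMap.aeval_self_charpoly, mul_zero, zero_add] at this
  have hR0 : ∀ j ∈ S, Polynomial.aeval (T.pullDeg F j) R = 0 := fun j hj => by
    rw [show R = (b' * ∏ l ∈ S.erase j, (T.pullDeg F l).charpoly) * (T.pullDeg F j).charpoly by
      rw [mul_assoc, Finset.prod_erase_mul _ _ hj], map_mul, LinearMap.aeval_self_charpoly, mul_zero]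
  choose g hgp hgq using fun m : ℕ => exists_lift hP ((End.of F) ^ m : X ⟶ X) (𝟙 X)
  have hmem : ∀ m, T.cl P (WeilCoh.sm (g m) (genericPoint X.obj.left)) ∈ T.gr P (dd X) := fun m => by
    convert T.cl_mem P (WeilCoh.sm (g m) (genericPoint X.obj.left)) using 2
    have := graph_codim (hgq m)
    have := dd_prod hP T
    omega
  refine ⟨∑ m ∈ R.support, R.coeff m • ⟨_, hmem m⟩, ?_, fun j b => ?_⟩
  · simp only [AddSubmonoidClass.coe_finsetSum, Submodule.coe_smul]
    exact sum_mem fun m _ => Submodule.smul_mem _ _ (Submodule.subset_span ⟨_, rfl⟩)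
  · have hb : (corr T p q (dd X) j (∑ m ∈ R.support, R.coeff m • ⟨_, hmem m⟩) b : T.H X) =
        (Polynomial.aeval (T.pullDeg F j) R b : T.H X) := by
      rw [Polynomial.aeval_eq_sum_range' (n := R.natDegree + 1) (Nat.lt_succ_self _)]
      rw [← Finset.sum_subset (s₁ := R.support) (s₂ := Finset.range (R.natDegree + 1))
        (fun m hm => Finset.mem_range.2 (Nat.lt_succ_of_le (Polynomial.le_natDegree_of_mem_supp m hm)))
        (fun m _ hm => by rw [Polynomial.notMem_support_iff.1 hm, zero_smul])]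
      simp only [map_sum, map_smul, LinearMap.sum_apply, LinearMap.smul_apply, AddSubmonoidClass.coe_finsetSum,
        Submodule.coe_smul]
      refine Finset.sum_congr rfl fun m _ => ?_
      rw [corr_graph hP _ (g m) (hgp m) (hgq m) (hmem m), pullDeg_pow_apply]
      congr 1
      exact pull_pow (End.of F) m _
    rw [hb]
    split_ifs with h
    · subst h; rw [hR1]; rfl
    · by_cases hj : j ∈ S
      · rw [hR0 j hj]; rfl
      · have hj' : j < 0 ∨ dd X < j := by
          simp only [S, Finset.mem_erase, Finset.mem_Icc, not_and_or] at hj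
          omega
        exact (Submodule.mem_bot K).1 (T.vanish X j hj' ▸ (Polynomial.aeval (T.pullDeg F j) R b).2)

theorem pull_cl_iso {P : WeilCoh.Var k} (σ : P ⟶ P) (hσ : σ ≫ σ = 𝟙 P) (ξ : P.obj.left) :
    T.pull σ (T.cl P (WeilCoh.sm σ ξ)) = T.cl P ξ := by
  have hdeg : ∀ x, ((WeilCoh.sm σ).residueDegree x : K) = 1 := fun x => by
    rw [residueDegree_section _ _ (sm_comp_id hσ), Nat.cast_one]
  have hgen : WeilCoh.sm σ (genericPoint P.obj.left) = genericPoint P.obj.left := by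
    have hs : Function.Surjective (WeilCoh.sm σ).base := fun y =>
      ⟨WeilCoh.sm σ y, congrArg (fun m : P.obj.left ⟶ P.obj.left => m.base y) (sm_comp_id hσ)⟩
    exact ((genericPoint_spec P.obj.left).image (WeilCoh.sm σ).continuous |>.eq
      (by rw [Set.image_univ, hs.range_eq, closure_univ]; exact genericPoint_spec P.obj.left))
  have htr : ∀ c : T.H P, T.tr P (T.pull σ c) = T.tr P c := fun c => by
    have := tr_cl_mul (T := T) σ (genericPoint P.obj.left) c
    rwa [cl_genericPoint, one_mul, hdeg, one_mul, hgen, cl_genericPoint, one_mul] at this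
  have hmem : T.pull σ (T.cl P (WeilCoh.sm σ ξ)) ∈ T.gr P (2 * (WeilCoh.codim P.obj.left ξ : ℤ)) := by
    convert T.pull_mem σ _ _ (T.cl_mem P (WeilCoh.sm σ ξ)) using 2
    rw [two_codim, two_codim, pdim_section hσ]
  refine eq_of_forall_tr hmem (T.cl_mem P ξ) fun b _ => ?_
  conv_lhs => rw [← pull_pull_id hσ b, ← map_mul, htr]
  conv_rhs => rw [← pull_pull_id hσ b, tr_cl_mul, hdeg, one_mul]

theorem cast_corr {X P : WeilCoh.Var k} (p q : P ⟶ X) (n : ℤ) (ψ : T.gr P n) {i j : ℤ} (h : j = i)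
    (h₁ : T.gr X (j + n + dd X - dd P) = T.gr X i) (h₂ : T.gr X (i + n + dd X - dd P) = T.gr X i) :
    (LinearEquiv.ofEq _ _ h₁).toLinearMap ∘ₗ corr T p q n j ψ =
      ((LinearEquiv.ofEq _ _ h₂).toLinearMap ∘ₗ corr T p q n i ψ) ∘ₗ
        (LinearEquiv.ofEq _ _ (congrArg (T.gr X) h)).toLinearMap := by
  subst h
  rfl

theorem tr_mul_eq_zero {X P : WeilCoh.Var k} (p q : P ⟶ X) (hP : WeilCoh.IsProd p q) (σ : P ⟶ P)
    (hσp : σ ≫ p = q) (hσq : σ ≫ q = p)
    (hdim : ∀ j : ℤ, j + dd X + dd X - dd P = j)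
    (u v : T.gr P (dd X)) (hv : (v : T.H P) ∈ Submodule.span K (Set.range (T.cl P)))
    (hJ : ∀ w : T.gr P (dd X), (w : T.H P) ∈ Submodule.span K (Set.range (T.cl P)) →
      ∀ j : Fin (2 * WeilCoh.dim X.obj.left + 1), IsNilpotent
        (((LinearEquiv.ofEq _ _ (congrArg (T.gr X) (hdim ((j : ℕ) : ℤ)))).toLinearMap ∘ₗ
            corr T p q (dd X) ((j : ℕ) : ℤ) w : Module.End K (T.gr X ((j : ℕ) : ℤ))) *
          ((LinearEquiv.ofEq _ _ (congrArg (T.gr X) (hdim ((j : ℕ) : ℤ)))).toLinearMap ∘ₗ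
            corr T p q (dd X) ((j : ℕ) : ℤ) u : Module.End K (T.gr X ((j : ℕ) : ℤ))))) :
    T.tr P ((u : T.H P) * (v : T.H P)) = 0 := by
  have hσσ : σ ≫ σ = 𝟙 P := var_hom_ext hP
    (by rw [Category.assoc, hσp, hσq, Category.id_comp]) (by rw [Category.assoc, hσq, hσp, Category.id_comp])
  let w : T.gr P (dd X) := ⟨T.pull σ v, T.pull_mem σ _ _ v.2⟩
  have hw : (w : T.H P) ∈ Submodule.span K (Set.range (T.cl P)) := by
    show (T.pull σ).toLinearMap v ∈ _
    have h1 : (T.pull σ).toLinearMap v ∈ (Submodule.span K (Set.range (T.cl P))).map (T.pull σ).toLinearMap :=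
      Submodule.mem_map_of_mem hv
    refine (Submodule.map_span_le _ _ _).2 ?_ h1
    rintro _ ⟨ξ, rfl⟩
    refine Submodule.subset_span ⟨WeilCoh.sm σ ξ, ?_⟩
    have h2 := pull_cl_iso (T := T) σ hσσ (WeilCoh.sm σ ξ)
    rw [show WeilCoh.sm σ (WeilCoh.sm σ ξ) = ξ from
      congrArg (fun m : P.obj.left ⟶ P.obj.left => m.base ξ) (sm_comp_id hσσ)] at h2
    exact h2.symm
  have hd := dd_prod hP T
  have key := tr_mul_pull_swap p q hP p q hP σ hσp hσq (dd X) (dd X) rfl (fun i => by omega) u w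
  rw [show T.pull σ (w : T.H P) = v from pull_pull_id hσσ _] at key
  rw [key]
  refine Finset.sum_eq_zero fun i hi => ?_
  have hn := LinearMap.isNilpotent_trace_of_isNilpotent (hJ w hw ⟨i, Finset.mem_range.1 hi⟩)
  rw [← LinearMap.comp_assoc, cast_corr p q (dd X) w (i := (i : ℤ)) (hdim i) _ (congrArg (T.gr X) (hdim i)),
    LinearMap.comp_assoc]
  exact mul_eq_zero_of_right _ hn.eq_zero

end Groth.Agent.WeilCohLib
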