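import Groth.Agent.WeilCohLib.Frob
import Groth.Agent.WeilCohLib.PDeg

/-!
# The degree of the Frobenius endomorphism is `q ^ dim`
-/

set_option autoImplicit false
set_option backward.isDefEq.respectTransparency.types false
set_option linter.style.haveILetI false

universe u v w

open CategoryTheory AlgebraicGeometry

namespace Groth.Agent.WeilCohLib

/-- residue degree as degree over the image -/
theorem residueDegree_eq_finrank_fieldRange {X Y : Scheme.{u}} (f : X ⟶ Y) (x : X) :
    f.residueDegree x = Module.finrank (f.residueFieldMap x).hom.fieldRange (X.residueField x) := by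
  unfold Scheme.Hom.residueDegree
  letI := (f.residueFieldMap x).hom.toAlgebra
  exact Algebra.finrank_eq_of_equiv_equiv (f.residueFieldMap x).hom.rangeRestrictFieldEquiv (RingEquiv.refl _)
    (RingHom.ext fun z => rfl)

variable {k₀ : Type u} [Field k₀] [Finite k₀] {k : Type u} [Field k] [IsAlgClosed k] [Algebra k₀ k]

theorem frob_degree {X : Scheme.{u}} (f : X ⟶ Spec (CommRingCat.of k₀))
    (FX : X ⟶ X) (hle : ∀ U : X.Opens, U ≤ FX ⁻¹ᵁ U)
    (hFapp : ∀ (U : X.Opens) (s : Γ(X, U)), (FX.appLE U U (hle U)).hom s = s ^ Nat.card k₀)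
    {Xb : WeilCoh.Var k} {π : Xb.obj.left ⟶ X}
    (hπ : IsPullback π Xb.obj.hom f (Spec.map (CommRingCat.ofHom (algebraMap k₀ k))))
    {F : Xb ⟶ Xb} (hF : WeilCoh.sm F ≫ π = π ≫ FX) :
    WeilCoh.sm F (genericPoint Xb.obj.left) = genericPoint Xb.obj.left ∧
      (WeilCoh.sm F).residueDegree (genericPoint Xb.obj.left) =
        Nat.card k₀ ^ WeilCoh.dim Xb.obj.left := by
  obtain ⟨p, e, hp, hchar, he, hq, hFX⟩ := exists_powFrob FX hle hFapp
  haveI := hchar
  haveI : Fact p.Prime := ⟨hp⟩
  haveI : ExpChar k₀ p := ExpChar.prime hp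
  haveI : ExpChar k p := expChar_of_injective_ringHom (algebraMap k₀ k).injective p
  haveI := Fintype.ofFinite k₀
  let Z := Xb.obj.left
  let η : Z := genericPoint Z
  -- the twist by the inverse Frobenius of `k`
  let σ : k ≃+* k := RingEquiv.ofBijective (iterateFrobenius k p e) (bijective_iterateFrobenius k p (n := e))
  have hσ : ∀ c : k₀, σ (algebraMap k₀ k c) = algebraMap k₀ k c := fun c => by
    show iterateFrobenius k p e _ = _
    rw [iterateFrobenius_def, ← map_pow, ← hq, Nat.card_eq_fintype_card, FiniteField.pow_card]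
  have hfix : ∀ τ : k →+* k, (∀ c : k₀, τ (algebraMap k₀ k c) = algebraMap k₀ k c) →
      π ≫ f = (Xb.obj.hom ≫ Spec.map (CommRingCat.ofHom τ)) ≫ Spec.map (CommRingCat.ofHom (algebraMap k₀ k)) := by
    intro τ hτ
    rw [Category.assoc, ← Spec.map_comp, ← CommRingCat.ofHom_comp,
      show τ.comp (algebraMap k₀ k) = algebraMap k₀ k from RingHom.ext hτ]
    exact hπ.w
  have hσ' : ∀ c : k₀, σ.symm (algebraMap k₀ k c) = algebraMap k₀ k c := fun c => by
    rw [RingEquiv.symm_apply_eq]; exact (hσ c).symm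
  let G : Z ⟶ Z := hπ.lift π (Xb.obj.hom ≫ Spec.map (CommRingCat.ofHom σ.symm.toRingHom)) (hfix _ hσ')
  let G' : Z ⟶ Z := hπ.lift π (Xb.obj.hom ≫ Spec.map (CommRingCat.ofHom σ.toRingHom)) (hfix _ hσ)
  have hG1 : G ≫ π = π := hπ.lift_fst _ _ _
  have hG2 : G ≫ Xb.obj.hom = Xb.obj.hom ≫ Spec.map (CommRingCat.ofHom σ.symm.toRingHom) := hπ.lift_snd _ _ _
  have hG'1 : G' ≫ π = π := hπ.lift_fst _ _ _
  have hG'2 : G' ≫ Xb.obj.hom = Xb.obj.hom ≫ Spec.map (CommRingCat.ofHom σ.toRingHom) := hπ.lift_snd _ _ _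
  haveI : IsIso G := ⟨G', hπ.hom_ext (by simp [Category.assoc, hG1, hG'1])
      (by rw [Category.assoc, hG'2, reassoc_of% hG2, ← Spec.map_comp, ← CommRingCat.ofHom_comp]; simp),
    hπ.hom_ext (by simp [Category.assoc, hG1, hG'1])
      (by rw [Category.assoc, hG2, reassoc_of% hG'2, ← Spec.map_comp, ← CommRingCat.ofHom_comp]; simp)⟩
  have hGη : G η = η := genericPoint_eq_of_isOpenImmersion G
  -- the residue field at the generic point
  let L := Z.residueField η
  let c : k →+* L := (Spec.preimage (Z.fromSpecResidueField η ≫ Xb.obj.hom)).hom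
  haveI : ExpChar L p := expChar_of_injective_ringHom c.injective p
  let φ : Z.residueField η ⟶ Z.residueField η := CommRingCat.ofHom (iterateFrobenius L p e)
  have hkey : Z.fromSpecResidueField η ≫ WeilCoh.sm F = (Spec.map φ ≫ Z.fromSpecResidueField η) ≫ G := by
    refine hπ.hom_ext ?_ ?_
    · rw [Category.assoc, hF, Category.assoc _ G π, hG1, ← Category.assoc, Category.assoc (Spec.map φ)]
      haveI : IsLocalRing (Z.residueField η) := IsLocalRing.of_isUnit_or_isUnit_one_sub_self fun a => by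
        rcases eq_or_ne a 0 with rfl | ha
        · exact Or.inr (by simp)
        · exact Or.inl (isUnit_iff_ne_zero.2 ha)
      exact @hFX (Z.residueField η) _ this _ (Z.fromSpecResidueField η ≫ π)
    · rw [Category.assoc, sm_w, Category.assoc _ G, hG2, Category.assoc, ← Category.assoc (Z.fromSpecResidueField η),
        ← Spec.map_preimage (Z.fromSpecResidueField η ≫ Xb.obj.hom), ← Spec.map_comp, ← Spec.map_comp]
      congr 1
      refine CommRingCat.hom_ext (RingHom.ext fun a => ?_)
      show c a = iterateFrobenius L p e (c (σ.symm a))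
      rw [iterateFrobenius_def, ← map_pow, ← iterateFrobenius_def]
      exact congrArg c (σ.apply_symm_apply a).symm
  rw [← Scheme.Hom.SpecMap_residueFieldMap_fromSpecResidueField, Category.assoc,
    ← Scheme.Hom.SpecMap_residueFieldMap_fromSpecResidueField, ← Spec.map_comp_assoc] at hkey
  have hsig := (Scheme.SpecToEquivOfField L Z).symm.injective
    (a₁ := ⟨WeilCoh.sm F η, (WeilCoh.sm F).residueFieldMap η⟩) (a₂ := ⟨G η, G.residueFieldMap η ≫ φ⟩) hkey
  have hpt : WeilCoh.sm F η = η := (congrArg Sigma.fst hsig).trans hGη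
  refine ⟨hpt, ?_⟩
  have hrange : ((WeilCoh.sm F).residueFieldMap η).hom.fieldRange = (iterateFrobenius L p e).fieldRange := by
    have h := congrArg (fun s : (x : Z) × (Z.residueField x ⟶ CommRingCat.of L) => s.2.hom.fieldRange) hsig
    refine h.trans ?_
    have hsurj : Function.Surjective (G.residueFieldMap η).hom :=
      (asIso (G.residueFieldMap η)).commRingCatIsoToRingEquiv.surjective
    ext z
    constructor
    · rintro ⟨w, rfl⟩; exact ⟨_, rfl⟩
    · rintro ⟨w, rfl⟩
      obtain ⟨w', rfl⟩ := hsurj w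
      exact ⟨w', rfl⟩
  rw [residueDegree_eq_finrank_fieldRange, hrange, hq]
  -- transcendence degree
  obtain ⟨_, ⟨U, hU, rfl⟩, hηU, -⟩ := Z.isBasis_affineOpens.exists_subset_of_mem_open (Set.mem_univ η) isOpen_univ
  haveI : Nonempty U := ⟨⟨η, hηU⟩⟩
  letI : Algebra k Γ(Z, U) := (DimTheory.secHom Xb.obj.hom U).toAlgebra
  haveI : Algebra.FiniteType k Γ(Z, U) := DimTheory.finiteType_secHom Xb.obj.hom hU
  letI : Algebra k L := (DimTheory.resHom Xb.obj.hom η).toAlgebra
  letI : Algebra Γ(Z, U) L := (Z.presheaf.germ U η hηU ≫ Z.residue η).hom.toAlgebra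
  haveI : IsScalarTower k Γ(Z, U) L := IsScalarTower.of_algebraMap_eq' (DimTheory.resHom_eq _ hηU)
  haveI : FaithfulSMul Γ(Z, U) L := (faithfulSMul_iff_algebraMap_injective _ _).2 <| by
    refine (RingHom.injective_iff_ker_eq_bot _).2 ?_
    show RingHom.ker (Z.presheaf.germ U η hηU ≫ Z.residue η).hom = ⊥
    rw [DimTheory.ker_evaluation hU hηU, hU.primeIdealOf_genericPoint, genericPoint_eq_bot_of_affine]
    rfl
  haveI : IsFractionRing Γ(Z, U) L := IsFractionRing.of_field _ _ fun z => by
    obtain ⟨a, b, rfl⟩ := DimTheory.exists_eq_div hU hηU z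
    exact ⟨a, b, rfl⟩
  refine finrank_fieldRange_of_finiteType k Γ(Z, U) L p e _ ?_
  show DimTheory.resTrdeg Xb.obj.hom η = _
  rw [resTrdeg_eq_pdim, pdim_genericPoint]

end Groth.Agent.WeilCohLib
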