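import Groth.Agent.WeilCohLib.Frob
import Groth.Agent.WeilCohLib.Kunneth
import Groth.Agent.WeilCohLib.Proj
import Groth.Agent.WeilCohLib.Count

/-!
# The Lefschetz fixed point count for powers of the Frobenius
-/

set_option autoImplicit false
set_option backward.isDefEq.respectTransparency.types false
set_option linter.style.haveILetI false

universe u v w

open CategoryTheory AlgebraicGeometry

namespace Groth.Agent.WeilCohLib

variable {k : Type u} [Field k] [IsAlgClosed k] {K : Type v} [Field K] {X : Scheme.{u}} {Xb : WeilCoh.Var k}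
  {π : Xb.obj.left ⟶ X} {F : Xb ⟶ Xb} {p e : ℕ}
variable {T : WeilCoh.TheoryOn.{u, v, w} k (WeilCoh.IsVar k) K}

section Geometry

variable {Pb : WeilCoh.Var k} (pr₁ pr₂ : Pb ⟶ Xb) (j d : Xb ⟶ Pb)

/-- the preimage of the graph under the diagonal -/
abbrev meetSet : Set Xb.obj.left :=
  (WeilCoh.sm d) ⁻¹' closure ({WeilCoh.sm j (genericPoint Xb.obj.left)} : Set Pb.obj.left)

variable (hFr : FrobData π F p e) (hP : WeilCoh.IsProd pr₁ pr₂) (hjp : j ≫ pr₁ = 𝟙 Xb) (hjq : j ≫ pr₂ = F)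
  (hdp : d ≫ pr₁ = 𝟙 Xb) (hdq : d ≫ pr₂ = 𝟙 Xb)

include hFr hjp hjq hdp hdq in
theorem eq_of_specializes {x x' : Xb.obj.left} (hx : IsClosed ({x} : Set Xb.obj.left))
    (hxC : x ∈ meetSet j d) (hx'C : x' ∈ meetSet j d) (hs : x' ⤳ x) : x' = x := by
  have hm := transversal hFr pr₁ pr₂ j d hjp hjq hdp hdq x hx hxC
  let sp := Xb.obj.left.presheaf.stalkSpecializes hs
  let q : Ideal (Xb.obj.left.presheaf.stalk x) :=
    Ideal.comap sp.hom (IsLocalRing.maximalIdeal (Xb.obj.left.presheaf.stalk x'))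
  have hq : q = IsLocalRing.maximalIdeal (Xb.obj.left.presheaf.stalk x) := by
    refine le_antisymm (IsLocalRing.le_maximalIdeal (Ideal.IsPrime.comap sp.hom).ne_top) ?_
    rw [← hm, Ideal.map_le_iff_le_comap]
    intro a ha
    rw [Ideal.mem_comap, Ideal.mem_comap]
    have hcomm := ConcreteCategory.congr_hom ((WeilCoh.sm d).stalkSpecializes_stalkMap x' x hs) a
    simp only [CommRingCat.hom_comp, RingHom.comp_apply] at hcomm
    rw [← hcomm]
    refine fun hu => ?_
    have h1 : WeilCoh.sm j (genericPoint Xb.obj.left) ⤳ WeilCoh.sm d x' :=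
      specializes_iff_mem_closure.2 hx'C
    have h2 := ((isUnit_map_iff ((WeilCoh.sm d).stalkMap x').hom _).1 hu).map
      (Pb.obj.left.presheaf.stalkSpecializes h1).hom
    have h3 := ConcreteCategory.congr_hom (TopCat.Presheaf.stalkSpecializes_comp Pb.obj.left.presheaf
      h1 (hs.map (WeilCoh.sm d).continuous)) a
    simp only [CommRingCat.hom_comp, RingHom.comp_apply] at h3
    rw [h3] at h2
    exact (h2.map (Pb.obj.left.residue _).hom).ne_zero (RingHom.mem_ker.1 ha)
  have h := congrArg (fun m : Spec (Xb.obj.left.presheaf.stalk x') ⟶ Xb.obj.left =>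
    m.base (IsLocalRing.closedPoint _)) (Scheme.SpecMap_stalkSpecializes_fromSpecStalk hs)
  simp only [Scheme.Hom.comp_base, TopCat.comp_app, Scheme.fromSpecStalk_closedPoint] at h
  have hpt : (Spec.map sp).base (IsLocalRing.closedPoint (Xb.obj.left.presheaf.stalk x')) =
      IsLocalRing.closedPoint (Xb.obj.left.presheaf.stalk x) := PrimeSpectrum.ext hq
  rw [hpt, Scheme.fromSpecStalk_closedPoint] at h
  exact h.symm

include hFr hjp hjq hdp hdq in
theorem isClosed_of_mem {x : Xb.obj.left} (hx : x ∈ meetSet j d) : IsClosed ({x} : Set Xb.obj.left) := by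
  haveI : CompactSpace Xb.obj.left := QuasiCompact.compactSpace_of_compactSpace Xb.obj.hom
  obtain ⟨y, hy, hyc⟩ := IsClosed.exists_closed_singleton (isClosed_closure (s := ({x} : Set Xb.obj.left)))
    ⟨x, subset_closure rfl⟩
  have hyC : y ∈ meetSet j d := closure_minimal (Set.singleton_subset_iff.2 hx)
    (isClosed_closure.preimage (WeilCoh.sm d).continuous) hy
  exact (eq_of_specializes pr₁ pr₂ j d hFr hjp hjq hdp hdq hyc hyC hx (specializes_iff_mem_closure.2 hy)) ▸ hyc

include hFr hjp hjq hdp hdq in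
theorem isCompPt_iff {x : Xb.obj.left} : WeilCoh.IsCompPt (meetSet j d) x ↔ x ∈ meetSet j d :=
  ⟨fun h => h.1, fun h => ⟨h, fun x' hx' hs =>
    eq_of_specializes pr₁ pr₂ j d hFr hjp hjq hdp hdq (isClosed_of_mem pr₁ pr₂ j d hFr hjp hjq hdp hdq h) h hx' hs⟩⟩

include hFr hjp hjq hdp hdq in
theorem meetSet_finite : (meetSet j d).Finite := by
  haveI : IsLocallyNoetherian Xb.obj.left := LocallyOfFiniteType.isLocallyNoetherian Xb.obj.hom
  haveI : CompactSpace Xb.obj.left := QuasiCompact.compactSpace_of_compactSpace Xb.obj.hom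
  haveI : IsNoetherian Xb.obj.left := ⟨⟩
  obtain ⟨S, hSf, hSc, hSi, hS⟩ := TopologicalSpace.NoetherianSpace.exists_finite_set_isClosed_irreducible
    (isClosed_closure.preimage (WeilCoh.sm d).continuous :
      IsClosed (meetSet j d : Set Xb.obj.left))
  refine (Set.Finite.subset ?_ hS.le : (meetSet j d).Finite)
  refine hSf.sUnion fun t ht => Set.Subsingleton.finite fun a ha b hb => ?_
  have hg : IsGenericPoint (hSi t ht).genericPoint t := (hSi t ht).isGenericPoint_genericPoint (hSc t ht)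
  have hgen : ∀ c ∈ t, (hSi t ht).genericPoint = c := fun c hc => by
    have hcC : c ∈ meetSet j d := hS.ge ⟨t, ht, hc⟩
    exact ((isCompPt_iff pr₁ pr₂ j d hFr hjp hjq hdp hdq).2 hcC).2 _ (hS.ge ⟨t, ht, hg.mem⟩) (hg.specializes hc)
  exact (hgen a ha).symm.trans (hgen b hb)

include hjp hjq hdp hdq hP hFr in
theorem mem_meetSet_iff {x : Xb.obj.left} :
    x ∈ meetSet j d ↔ IsClosed ({x} : Set Xb.obj.left) ∧ WeilCoh.sm F x = x := by
  have hjp' := sm_comp_id hjp
  have hdp' := sm_comp_id hdp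
  have hjq' : WeilCoh.sm j ≫ WeilCoh.sm pr₂ = WeilCoh.sm F := congrArg (fun g : Xb ⟶ Xb => g.hom.left) hjq
  have hdq' := sm_comp_id hdq
  refine ⟨fun hx => ⟨isClosed_of_mem pr₁ pr₂ j d hFr hjp hjq hdp hdq hx, ?_⟩, fun ⟨hx, hF⟩ => ?_⟩
  · haveI : IsClosedImmersion (WeilCoh.sm j) := by
      haveI : IsClosedImmersion (WeilCoh.sm j ≫ WeilCoh.sm pr₁) := by rw [hjp']; infer_instance
      haveI : IsSeparated (WeilCoh.sm pr₁) := by
        haveI : IsSeparated (WeilCoh.sm pr₁ ≫ Xb.obj.hom) := by rw [sm_w]; infer_instance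
        exact IsSeparated.of_comp (WeilCoh.sm pr₁) Xb.obj.hom
      exact IsClosedImmersion.of_comp _ (WeilCoh.sm pr₁)
    obtain ⟨y, hy⟩ : WeilCoh.sm d x ∈ Set.range (WeilCoh.sm j) :=
      closure_minimal (Set.singleton_subset_iff.2 (Set.mem_range_self _))
        (WeilCoh.sm j).isClosedEmbedding.isClosed_range hx
    have h1 := congrArg (WeilCoh.sm pr₁) hy
    rw [show WeilCoh.sm pr₁ (WeilCoh.sm j y) = y from congrArg (fun m : Xb.obj.left ⟶ _ => m.base y) hjp',
      show WeilCoh.sm pr₁ (WeilCoh.sm d x) = x from congrArg (fun m : Xb.obj.left ⟶ _ => m.base x) hdp'] at h1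
    subst h1
    have h2 := congrArg (WeilCoh.sm pr₂) hy
    rw [show WeilCoh.sm pr₂ (WeilCoh.sm j y) = WeilCoh.sm F y from congrArg (fun m : Xb.obj.left ⟶ _ => m.base y) hjq',
      show WeilCoh.sm pr₂ (WeilCoh.sm d y) = y from congrArg (fun m : Xb.obj.left ⟶ _ => m.base y) hdq'] at h2
    exact h2
  · let g := pointOfClosedPoint Xb.obj.hom x hx
    have hgF : g ≫ WeilCoh.sm F = g := ext_of_apply_closedPoint_eq Xb.obj.hom
      (by rw [Category.assoc, sm_w F]; exact pointOfClosedPoint_comp ..) (pointOfClosedPoint_comp ..)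
      (by
        show WeilCoh.sm F (g (IsLocalRing.closedPoint k)) = g (IsLocalRing.closedPoint k)
        rw [pointOfClosedPoint_apply, hF])
    have hgjd : g ≫ WeilCoh.sm j = g ≫ WeilCoh.sm d := IsPullback.hom_ext hP
      (by rw [Category.assoc, Category.assoc, hjp', hdp'])
      (by rw [Category.assoc, Category.assoc, hjq', hdq', hgF, Category.comp_id])
    have h1 : WeilCoh.sm j x = WeilCoh.sm d x := by
      have h2 : WeilCoh.sm j (g (IsLocalRing.closedPoint k)) = WeilCoh.sm d (g (IsLocalRing.closedPoint k)) :=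
        congrArg (fun m : Spec (CommRingCat.of k) ⟶ _ => m.base (IsLocalRing.closedPoint k)) hgjd
      rwa [pointOfClosedPoint_apply] at h2
    show WeilCoh.sm d x ∈ closure _
    rw [← h1]
    exact specializes_iff_mem_closure.1
      (((genericPoint_spec Xb.obj.left).specializes trivial).map (WeilCoh.sm j).continuous)

include hjp hjq hdp hdq hP hFr in
theorem tr_graph_mul_diag :
    T.tr Pb (T.cl Pb (WeilCoh.sm j (genericPoint Xb.obj.left)) * T.cl Pb (WeilCoh.sm d (genericPoint Xb.obj.left))) =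
      (Nat.card {x : Xb.obj.left // IsClosed ({x} : Set Xb.obj.left) ∧ WeilCoh.sm F x = x} : K) := by
  classical
  have hc := graph_codim hjp
  have hd := dd_prod hP T
  rw [comm_of_even (T.cl_mem Pb _) (T.cl_mem Pb _) (Or.inl (even_two_mul _)),
    cl_graph_mul hdp (by convert T.cl_mem Pb (WeilCoh.sm j (genericPoint Xb.obj.left)) using 2; omega)]
  have hmult : ∀ (w : Xb.obj.left) (hw : WeilCoh.IsCompPt (meetSet j d) w),
      WeilCoh.preimMult (WeilCoh.sm d) (WeilCoh.sm j (genericPoint Xb.obj.left)) w hw.1 = 1 := fun w hw => by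
    unfold WeilCoh.preimMult
    rw [transversal hFr pr₁ pr₂ j d hjp hjq hdp hdq w
      (isClosed_of_mem pr₁ pr₂ j d hFr hjp hjq hdp hdq hw.1) hw.1]
    haveI : IsSimpleModule (Xb.obj.left.presheaf.stalk w)
        (Xb.obj.left.presheaf.stalk w ⧸ IsLocalRing.maximalIdeal (Xb.obj.left.presheaf.stalk w)) :=
      isSimpleModule_iff_isCoatom.2 (IsLocalRing.maximalIdeal.isMaximal _).out
    rw [Module.length_eq_one]
    rfl
  have h := T.cl_pull d (WeilCoh.sm j (genericPoint Xb.obj.left)) (fun w hw => by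
    rw [pdim_eq_zero_of_isClosed (isClosed_of_mem pr₁ pr₂ j d hFr hjp hjq hdp hdq hw.1),
      pdim_section hjp, pdim_genericPoint]
    have := dim_prod hP T
    omega) (Or.inr hmult)
  haveI : Finite {w // WeilCoh.IsCompPt (meetSet j d) w} :=
    ((meetSet_finite pr₁ pr₂ j d hFr hjp hjq hdp hdq).subset fun w hw => hw.1).to_subtype
  haveI := Fintype.ofFinite {w // WeilCoh.IsCompPt (meetSet j d) w}
  rw [h, finsum_eq_sum_of_fintype (fun w : {w // WeilCoh.IsCompPt (meetSet j d) w} => _), map_sum]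
  rw [Finset.sum_congr rfl fun w _ => by
    rw [hmult w.1 w.2, Nat.cast_one, one_smul,
      tr_cl_closed Xb w.1 (isClosed_of_mem pr₁ pr₂ j d hFr hjp hjq hdp hdq w.2.1)]]
  rw [Finset.sum_const, nsmul_eq_mul, mul_one, Finset.card_univ, ← Nat.card_eq_fintype_card]
  congr 1
  exact Nat.card_congr (Equiv.subtypeEquivRight fun x =>
    (isCompPt_iff pr₁ pr₂ j d hFr hjp hjq hdp hdq).trans (mem_meetSet_iff pr₁ pr₂ j d hFr hP hjp hjq hdp hdq))

end Geometry

theorem pullDeg_pow {Y : WeilCoh.Var k} (F : Y ⟶ Y) (m : ℕ) (i : ℤ) :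
    T.pullDeg ((End.of F ^ m : End Y) : Y ⟶ Y) i = (T.pullDeg F i) ^ m :=
  LinearMap.ext fun b => Subtype.ext ((pull_pow (T := T) (End.of F) m (b : T.H Y)).trans (pullDeg_pow_apply (T := T) F i m b).symm)

/-- the trace formula for the number of rational points of `X` over the extension of degree `m` -/
theorem nPts_eq_sum_trace {k₀ : Type u} [Field k₀] [Finite k₀] [Algebra k₀ k]
    (f : X ⟶ Spec (CommRingCat.of k₀)) [LocallyOfFiniteType f]
    (FX : X ⟶ X) (hle : ∀ U : X.Opens, U ≤ FX ⁻¹ᵁ U)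
    (hFapp : ∀ (U : X.Opens) (s : Γ(X, U)), (FX.appLE U U (hle U)).hom s = s ^ Nat.card k₀)
    (hπ : IsPullback π Xb.obj.hom f (Spec.map (CommRingCat.ofHom (algebraMap k₀ k))))
    (hF : WeilCoh.sm F ≫ π = π ≫ FX)
    {Pb : WeilCoh.Var k} (pr₁ pr₂ : Pb ⟶ Xb) (hP : WeilCoh.IsProd pr₁ pr₂) (m : ℕ) (hm : 0 < m) :
    (Zeta.nPts f m : K) = ∑ i ∈ Finset.range (2 * WeilCoh.dim Xb.obj.left + 1),
        (-1 : K) ^ i * LinearMap.trace K ↥(T.gr Xb (i : ℤ)) ((T.pullDeg F (i : ℤ)) ^ m) := by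
  classical
  obtain ⟨p, e, hp, hchar, he, hq, hFX⟩ := exists_powFrob FX hle hFapp
  haveI := hchar
  haveI : Fact p.Prime := ⟨hp⟩
  haveI : ExpChar k₀ p := ExpChar.prime hp
  haveI : ExpChar k p := expChar_of_injective_ringHom (algebraMap k₀ k).injective p
  obtain ⟨FX', hFX', hFm⟩ := exists_pow π hFX hF m
  set Fm : Xb ⟶ Xb := ((End.of F ^ m : End Xb) : Xb ⟶ Xb) with hFm_def
  have hdata : FrobData π Fm p (e * m) :=
    ⟨hp, inferInstance, Nat.mul_pos he hm, ⟨FX', hFX', hFm⟩, fun a b h1 h2 => hπ.hom_ext h1 h2⟩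
  obtain ⟨j, hjp, hjq⟩ := exists_lift hP (𝟙 Xb) Fm
  obtain ⟨d, hdp, hdq⟩ := exists_lift hP (𝟙 Xb) (𝟙 Xb)
  have hL := lefschetz (T := T) Fm pr₁ pr₂ hP j d hjp hjq hdp hdq
  rw [tr_graph_mul_diag pr₁ pr₂ j d hdata hP hjp hjq hdp hdq] at hL
  simp only [hFm_def, pullDeg_pow] at hL
  rw [← hL]
  congr 1
  let φ := iterateFrobenius k p (e * m)
  have hφ : ∀ a, φ a = a ^ (Nat.card k₀) ^ m := fun a => by
    show iterateFrobenius k p (e * m) a = _
    rw [iterateFrobenius_def, hq, pow_mul]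
  let E : {x : Xb.obj.left // IsClosed ({x} : Set Xb.obj.left) ∧ WeilCoh.sm Fm x = x} ≃
      {g : Spec (CommRingCat.of k) ⟶ X // g ≫ f = Spec.map (CommRingCat.ofHom (algebraMap k₀ k)) ∧
        Spec.map (CommRingCat.ofHom φ) ≫ g = g} :=
  { toFun := fun x => ⟨pointOfClosedPoint Xb.obj.hom x.1 x.2.1 ≫ π, by
      rw [Category.assoc, hπ.w, pointOfClosedPoint_comp_assoc], by
      rw [← hFX' k, Category.assoc, ← hFm, ← Category.assoc]
      congr 1
      exact ext_of_apply_closedPoint_eq Xb.obj.hom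
        (by rw [Category.assoc, sm_w Fm]; exact pointOfClosedPoint_comp ..) (pointOfClosedPoint_comp ..)
        (by
          show WeilCoh.sm Fm (pointOfClosedPoint Xb.obj.hom x.1 x.2.1 (IsLocalRing.closedPoint k)) =
            pointOfClosedPoint Xb.obj.hom x.1 x.2.1 (IsLocalRing.closedPoint k)
          rw [pointOfClosedPoint_apply, x.2.2])⟩
    invFun := fun g => ⟨(hπ.lift g.1 (𝟙 _) (by rw [g.2.1, Category.id_comp])) (IsLocalRing.closedPoint k),
      ((pointEquivClosedPoint Xb.obj.hom) ⟨_, hπ.lift_snd g.1 (𝟙 _) (by rw [g.2.1, Category.id_comp])⟩).2, by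
      have h : hπ.lift g.1 (𝟙 _) (by rw [g.2.1, Category.id_comp]) ≫ WeilCoh.sm Fm =
          hπ.lift g.1 (𝟙 _) (by rw [g.2.1, Category.id_comp]) := by
        refine hπ.hom_ext ?_ ?_
        · rw [Category.assoc, hFm, ← Category.assoc, hπ.lift_fst, hFX' k]
          exact g.2.2
        · rw [Category.assoc, sm_w Fm]
      exact congrArg (fun m : Spec (CommRingCat.of k) ⟶ _ => m.base (IsLocalRing.closedPoint k)) h⟩
    left_inv := fun x => Subtype.ext (by
      dsimp only
      rw [show hπ.lift (pointOfClosedPoint Xb.obj.hom x.1 x.2.1 ≫ π) (𝟙 _) _ = pointOfClosedPoint Xb.obj.hom x.1 x.2.1 from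
        hπ.hom_ext (hπ.lift_fst _ _ _) ((hπ.lift_snd _ _ _).trans (pointOfClosedPoint_comp ..).symm),
        pointOfClosedPoint_apply])
    right_inv := fun g => Subtype.ext (by
      dsimp only
      rw [show pointOfClosedPoint Xb.obj.hom _ _ = hπ.lift g.1 (𝟙 _) (by rw [g.2.1, Category.id_comp]) from
        ext_of_apply_closedPoint_eq Xb.obj.hom (pointOfClosedPoint_comp ..) (hπ.lift_snd _ _ _)
          (pointOfClosedPoint_apply ..), hπ.lift_fst]) }
  haveI : Finite {x : Xb.obj.left // IsClosed ({x} : Set Xb.obj.left) ∧ WeilCoh.sm Fm x = x} :=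
    ((meetSet_finite pr₁ pr₂ j d hdata hjp hjq hdp hdq).subset fun x hx =>
      (mem_meetSet_iff pr₁ pr₂ j d hdata hP hjp hjq hdp hdq).2 hx).to_subtype
  rw [Nat.card_congr E, card_fixed_points f m hm φ hφ (Finite.of_equiv _ E)]

end Groth.Agent.WeilCohLib
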