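import Groth.Agent.WeilCohLib.Geometry

/-!
# Formal consequences of the axioms of a Weil cohomology theory
-/

set_option autoImplicit false
set_option backward.isDefEq.respectTransparency.types false
set_option linter.style.haveILetI false

universe u v w

open CategoryTheory AlgebraicGeometry

namespace Groth.Agent.WeilCohLib

variable {k : Type u} [Field k] {K : Type v} [Field K]
variable {T : WeilCoh.TheoryOn.{u, v, w} k (WeilCoh.IsVar k) K}

/-- twice the dimension -/
noncomputable abbrev dd (X : WeilCoh.Var k) : ℤ := 2 * (WeilCoh.dim X.obj.left : ℤ)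

theorem smul_sign_eq_of_even {M : Type*} [AddCommGroup M] [Module K M] (a b : ℕ) (h : Even (a * b)) (x : M) :
    ((-1 : K) ^ (a * b)) • x = x := by rw [h.neg_one_pow, one_smul]

theorem comm_of_even {X : WeilCoh.Var k} {i j : ℤ} {a b : T.H X} (ha : a ∈ T.gr X i) (hb : b ∈ T.gr X j)
    (h : Even i ∨ Even j) : a * b = b * a := by
  rw [T.gradedComm X i j a b ha hb, smul_sign_eq_of_even]
  rcases h with h | h
  · exact (Int.natAbs_even.2 h).mul_right _
  · exact (Int.natAbs_even.2 h).mul_left _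

theorem eq_of_forall_tr {Y : WeilCoh.Var k} {i : ℤ} {x y : T.H Y} (hx : x ∈ T.gr Y i) (hy : y ∈ T.gr Y i)
    (h : ∀ b ∈ T.gr Y (dd Y - i), T.tr Y (x * b) = T.tr Y (y * b)) : x = y := by
  haveI := T.duality Y i (dd Y - i) (by simp [dd])
  have := (WeilCoh.pairing K (T.gr Y i) (T.gr Y (dd Y - i)) (T.tr Y)).toPerfPair.injective
    (a₁ := ⟨x, hx⟩) (a₂ := ⟨y, hy⟩) (LinearMap.ext fun b => h b b.2)
  exact congrArg Subtype.val this

theorem tr_push {X Y : WeilCoh.Var k} (f : X ⟶ Y) (i : ℤ) (a : T.gr X i) {b : T.H Y}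
    (hb : b ∈ T.gr Y (dd X - i)) : T.tr Y ((T.push f i a : T.H Y) * b) = T.tr X (a * T.pull f b) := by
  haveI := T.duality Y (i + dd Y - dd X) (dd X - i) (by simp [dd])
  exact LinearMap.congr_fun
    ((WeilCoh.pairing K (T.gr Y (i + dd Y - dd X)) (T.gr Y (dd X - i)) (T.tr Y)).toPerfPair.apply_symm_apply
      (T.pushFunctional f i a)) ⟨b, hb⟩

/-- the characterisation of push-forward -/
theorem push_eq {X Y : WeilCoh.Var k} (f : X ⟶ Y) (i : ℤ) (a : T.gr X i) {c : T.H Y}
    (hc : c ∈ T.gr Y (i + dd Y - dd X))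
    (h : ∀ b ∈ T.gr Y (dd X - i), T.tr X (a * T.pull f b) = T.tr Y (c * b)) :
    (T.push f i a : T.H Y) = c :=
  eq_of_forall_tr (T.push f i a).2 hc fun b hb => by
    have hb' : b ∈ T.gr Y (dd X - i) := by
      rwa [show dd X - i = dd Y - (i + dd Y - dd X) by ring]
    rw [tr_push f i a hb', h b hb']

theorem push_mul_pull {X Y : WeilCoh.Var k} (f : X ⟶ Y) (i j : ℤ) (a : T.gr X i) (c : T.gr Y j)
    (h : (a : T.H X) * T.pull f c ∈ T.gr X (i + j)) :
    (T.push f (i + j) ⟨(a : T.H X) * T.pull f c, h⟩ : T.H Y) = (T.push f i a : T.H Y) * c := by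
  refine push_eq f (i + j) _ ?_ fun b hb => ?_
  · convert SetLike.mul_mem_graded (T.push f i a).2 c.2 using 2
    ring
  · rw [mul_assoc (T.push f i a : T.H Y), tr_push f i a (b := (c : T.H Y) * b) ?_, map_mul (T.pull f), ← mul_assoc]
    convert SetLike.mul_mem_graded c.2 hb using 2
    ring

theorem push_comp {X Y Z : WeilCoh.Var k} (f : X ⟶ Y) (g : Y ⟶ Z) (i : ℤ) (a : T.gr X i) :
    (T.push (f ≫ g) i a : T.H Z) = (T.push g (i + dd Y - dd X) (T.push f i a) : T.H Z) := by
  refine push_eq (f ≫ g) i a ?_ fun b hb => ?_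
  · convert (T.push g (i + dd Y - dd X) (T.push f i a)).2 using 2
    simp only [dd]; ring
  · have hb' : b ∈ T.gr Z (dd Y - (i + dd Y - dd X)) := by
      rwa [show dd Y - (i + dd Y - dd X) = dd X - i by ring]
    rw [tr_push g _ _ hb', tr_push f i a (T.pull_mem g _ b hb), T.pull_comp]
    rfl

theorem tr_bij_exists_one (X : WeilCoh.Var k) : ∃ a ∈ T.gr X (dd X), T.tr X a = 1 := by
  obtain ⟨a, ha⟩ := (T.tr_bijective X).2 1
  exact ⟨a, a.2, ha⟩

theorem eq_of_tr_top {X : WeilCoh.Var k} {a b : T.H X} (ha : a ∈ T.gr X (dd X)) (hb : b ∈ T.gr X (dd X))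
    (h : T.tr X a = T.tr X b) : a = b :=
  congrArg Subtype.val ((T.tr_bijective X).1 (a₁ := ⟨a, ha⟩) (a₂ := ⟨b, hb⟩) h)

theorem one_ne_zero_H (X : WeilCoh.Var k) : (1 : T.H X) ≠ 0 := fun h => by
  obtain ⟨a, -, ha⟩ := tr_bij_exists_one (T := T) X
  rw [← mul_one a, h, mul_zero, map_zero] at ha
  exact zero_ne_one ha

theorem exists_eq_algebraMap {X : WeilCoh.Var k} {x : T.H X} (hx : x ∈ T.gr X 0) :
    ∃ c : K, x = algebraMap K (T.H X) c := by
  obtain ⟨a, ha, ha1⟩ := tr_bij_exists_one (T := T) X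
  have hm : algebraMap K (T.H X) (T.tr X (x * a)) ∈ T.gr X 0 := by
    rw [Algebra.algebraMap_eq_smul_one]
    exact (T.gr X 0).smul_mem _ (SetLike.one_mem_graded (T.gr X))
  refine ⟨T.tr X (x * a), eq_of_forall_tr hx hm fun b hb => ?_⟩
  rw [sub_zero] at hb
  have hb' : b = T.tr X b • a := eq_of_tr_top hb ((T.gr X _).smul_mem _ ha) (by rw [map_smul, ha1, smul_eq_mul, mul_one])
  rw [hb', mul_smul_comm, mul_smul_comm, map_smul, map_smul, ← Algebra.smul_def, map_smul, ha1]
  simp [mul_comm]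

theorem smul_one_bijective (X : WeilCoh.Var k) (h : ∀ c : K, c • (1 : T.H X) ∈ T.gr X 0) :
    Function.Bijective (fun c : K => (⟨c • (1 : T.H X), h c⟩ : T.gr X 0)) := by
  refine ⟨fun c c' e => smul_left_injective K (one_ne_zero_H (T := T) X) (congrArg Subtype.val e), fun x => ?_⟩
  obtain ⟨c, hc⟩ := exists_eq_algebraMap x.2
  exact ⟨c, Subtype.ext (by rw [hc]; exact (Algebra.algebraMap_eq_smul_one c).symm)⟩

theorem cl_mem' (X : WeilCoh.Var k) (x : X.obj.left) :
    T.cl X x ∈ T.gr X (dd X - 2 * (WeilCoh.pdim X.obj.left x : ℤ)) := by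
  rw [← two_codim]
  exact T.cl_mem X x

theorem cl_pt (P : WeilCoh.Var k) (hP : WeilCoh.dim P.obj.left = 0) (ξ : P.obj.left) : T.cl P ξ = 1 :=
  (T.point P hP).1 ξ

theorem cl_genericPoint (X : WeilCoh.Var k) : T.cl X (genericPoint X.obj.left) = 1 := by
  classical
  let f := toPt X
  let o : (pt k).obj.left := genericPoint (pt k).obj.left
  have ho : ∀ z : (pt k).obj.left, z = o := fun z => Subsingleton.elim (α := PrimeSpectrum k) z o
  have hpre : (WeilCoh.sm f) ⁻¹' closure ({o} : Set (pt k).obj.left) = Set.univ :=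
    Set.eq_univ_of_forall fun w => subset_closure (ho _)
  have hcomp : ∀ w, WeilCoh.IsCompPt ((WeilCoh.sm f) ⁻¹' closure ({o} : Set (pt k).obj.left)) w ↔
      w = genericPoint X.obj.left := fun w => by
    rw [hpre]
    refine ⟨fun h => (h.2 _ trivial ((genericPoint_spec X.obj.left).specializes trivial)).symm,
      fun h => ⟨trivial, fun w' _ hw' => ?_⟩⟩
    subst h
    exact (Specializes.antisymm hw' ((genericPoint_spec X.obj.left).specializes trivial)).eq
  have hmult : ∀ w (hw : WeilCoh.IsCompPt ((WeilCoh.sm f) ⁻¹' closure ({o} : Set (pt k).obj.left)) w),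
      WeilCoh.preimMult (WeilCoh.sm f) o w hw.1 = 1 := by
    intro w hw
    obtain rfl := (hcomp w).1 hw
    have hfld : ∀ z : (pt k).obj.left, IsField ((pt k).obj.left.presheaf.stalk z) := fun z => by
      rw [ho z]
      exact Field.toIsField ((pt k).obj.left.functionField)
    have hXfld : IsField (X.obj.left.presheaf.stalk (genericPoint X.obj.left)) :=
      Field.toIsField X.obj.left.functionField
    have hker : RingHom.ker (Cyc.specMap (WeilCoh.sm f (genericPoint X.obj.left)) o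
        (specializes_iff_mem_closure.mpr hw.1)) = ⊥ := by
      haveI := Ring.isField_iff_isSimpleOrder_ideal.1 (hfld (WeilCoh.sm f (genericPoint X.obj.left)))
      exact (eq_bot_or_eq_top _).resolve_right (RingHom.ker_ne_top _)
    unfold WeilCoh.preimMult
    rw [hker, Ideal.map_bot, LinearEquiv.length_eq (Submodule.quotEquivOfEqBot ⊥ rfl)]
    haveI : IsSimpleModule (X.obj.left.presheaf.stalk (genericPoint X.obj.left))
        (X.obj.left.presheaf.stalk (genericPoint X.obj.left)) :=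
      isSimpleModule_iff _ _ |>.2 (Ring.isField_iff_isSimpleOrder_ideal.1 hXfld)
    rw [Module.length_eq_one]
    rfl
  have h := T.cl_pull f o (fun w hw => by
    obtain rfl := (hcomp w).1 hw
    rw [pdim_genericPoint]
    have h0 : WeilCoh.pdim (pt k).obj.left o = 0 := by
      show WeilCoh.pdim (pt k).obj.left (genericPoint (pt k).obj.left) = 0
      rw [pdim_genericPoint, dim_pt]
    rw [h0, dim_pt]
    simp) (Or.inr hmult)
  rw [cl_pt (pt k) (dim_pt k), map_one] at h
  rw [h, finsum_eq_single _ ⟨genericPoint X.obj.left, (hcomp _).2 rfl⟩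
    fun w hw => absurd (Subtype.ext ((hcomp w.1).1 w.2)) hw, hmult _ ((hcomp _).2 rfl), Nat.cast_one, one_smul]

theorem tr_cl_closed [IsAlgClosed k] (X : WeilCoh.Var k) (x : X.obj.left) (hx : IsClosed ({x} : Set X.obj.left)) :
    T.tr X (T.cl X x) = 1 := by
  have h := T.cl_push (toPt X) x 1 (by rw [pdim_eq_zero_of_isClosed hx]; exact SetLike.one_mem_graded (T.gr _))
  rw [map_one, mul_one, cl_pt (pt k) (dim_pt k), mul_one, (T.point (pt k) (dim_pt k)).2, mul_one] at h
  rw [h]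
  show ((X.obj.hom.residueDegree x : ℕ) : K) = 1
  rw [residueDegree_of_isClosed X.obj.hom hx, Nat.cast_one]

theorem tr_pull {X Y : WeilCoh.Var k} (f : X ⟶ Y)
    (hdom : WeilCoh.sm f (genericPoint X.obj.left) = genericPoint Y.obj.left)
    (hdim : WeilCoh.dim X.obj.left = WeilCoh.dim Y.obj.left) (a : T.H Y) (ha : a ∈ T.gr Y (dd Y)) :
    T.tr X (T.pull f a) = ((WeilCoh.sm f).residueDegree (genericPoint X.obj.left) : K) * T.tr Y a := by
  have h := T.cl_push f (genericPoint X.obj.left) a (by rw [pdim_genericPoint, hdim]; exact ha)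
  rwa [cl_genericPoint, one_mul, hdom, cl_genericPoint, one_mul] at h

theorem push_cl {X Y : WeilCoh.Var k} (f : X ⟶ Y) (ξ : X.obj.left) :
    (T.push f (2 * (WeilCoh.codim X.obj.left ξ : ℤ)) ⟨T.cl X ξ, T.cl_mem X ξ⟩ : T.H Y) =
      ((WeilCoh.sm f).residueDegree ξ : K) • T.cl Y (WeilCoh.sm f ξ) := by
  refine push_eq f _ _ ?_ fun b hb => ?_
  · by_cases hd : (WeilCoh.sm f).residueDegree ξ = 0
    · rw [hd, Nat.cast_zero, zero_smul]; exact zero_mem _
    · refine Submodule.smul_mem _ _ ?_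
      convert cl_mem' Y (WeilCoh.sm f ξ) using 2
      rw [pdim_eq_of_residueDegree_ne_zero f ξ hd, two_codim]
      ring
  · rw [smul_mul_assoc, map_smul, smul_eq_mul]
    refine T.cl_push f ξ b ?_
    convert hb using 2
    rw [two_codim]
    ring

theorem dim_prod {X Y Q : WeilCoh.Var k} {p : Q ⟶ X} {q : Q ⟶ Y} (h : WeilCoh.IsProd p q)
    (T : WeilCoh.TheoryOn.{u, v, w} k (WeilCoh.IsVar k) K) :
    WeilCoh.dim Q.obj.left = WeilCoh.dim X.obj.left + WeilCoh.dim Y.obj.left := by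
  obtain ⟨a, ha, ha1⟩ := tr_bij_exists_one (T := T) X
  obtain ⟨b, hb, hb1⟩ := tr_bij_exists_one (T := T) Y
  by_contra hne
  have h0 := T.tr_vanish Q _ _ (SetLike.mul_mem_graded (T.pull_mem p _ a ha) (T.pull_mem q _ b hb))
    (by simp only [dd]; omega)
  rw [T.tr_prod p q h a b ha hb, ha1, hb1, mul_one] at h0
  exact one_ne_zero h0

theorem dd_prod {X Y Q : WeilCoh.Var k} {p : Q ⟶ X} {q : Q ⟶ Y} (h : WeilCoh.IsProd p q)
    (T : WeilCoh.TheoryOn.{u, v, w} k (WeilCoh.IsVar k) K) :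
    dd Q = dd X + dd Y := by
  simp only [dd, dim_prod h T]
  push_cast
  ring

theorem push_fst_pull_snd {X Y Q : WeilCoh.Var k} {p : Q ⟶ X} {q : Q ⟶ Y} (h : WeilCoh.IsProd p q) (i : ℤ)
    (a : T.gr Y i) :
    (i = dd Y → (T.push p i ⟨T.pull q a, T.pull_mem q i a a.2⟩ : T.H X) = algebraMap K (T.H X) (T.tr Y a)) ∧
    (i ≠ dd Y → (T.push p i ⟨T.pull q a, T.pull_mem q i a a.2⟩ : T.H X) = 0) := by
  have hd := dd_prod h T
  refine ⟨fun hi => push_eq p i _ ?_ fun b hb => ?_, fun hi => push_eq p i _ (zero_mem _) fun b hb => ?_⟩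
  · rw [Algebra.algebraMap_eq_smul_one, show i + dd X - dd Q = 0 by omega]
    exact Submodule.smul_mem _ _ (SetLike.one_mem_graded (T.gr X))
  · have hb' : b ∈ T.gr X (dd X) := by rwa [hi, hd, add_sub_cancel_right] at hb
    have ha : (a : T.H Y) ∈ T.gr Y (dd Y) := hi ▸ a.2
    rw [← Algebra.smul_def, map_smul, smul_eq_mul,
      comm_of_even (T.pull_mem q _ _ ha) (T.pull_mem p _ _ hb') (Or.inl (even_two_mul _)),
      T.tr_prod p q h b a hb' ha, mul_comm]
  · rcases lt_or_gt_of_ne hi with hi | hi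
    · have hb0 : b = 0 := (Submodule.mem_bot K).1 (T.vanish X _ (Or.inr (show dd X < dd Q - i by omega)) ▸ hb)
      rw [hb0, map_zero, mul_zero, map_zero, mul_zero, map_zero]
    · have ha0 : (a : T.H Y) = 0 := (Submodule.mem_bot K).1 (T.vanish Y _ (Or.inr hi) ▸ a.2)
      simp [ha0]

end Groth.Agent.WeilCohLib
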