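import Groth.Agent.WeilCohLib.Graph
import Mathlib.Algebra.DualNumber
import Mathlib.Algebra.CharP.Lemmas
import Mathlib.FieldTheory.Finite.Basic
import Mathlib.LinearAlgebra.Dual.Lemmas
import Mathlib.RingTheory.Ideal.Cotangent

/-!
# The Frobenius endomorphism: its graph meets the diagonal transversally
-/

set_option autoImplicit false
set_option backward.isDefEq.respectTransparency.types false
set_option linter.style.haveILetI false

universe u v w

open CategoryTheory AlgebraicGeometry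

namespace Groth.Agent.WeilCohLib

/-- `FX` acts on points with values in local rings of characteristic `p` as the `p^e`-power map -/
def PowFrob (p e : ℕ) {X : Scheme.{u}} (FX : X ⟶ X) : Prop :=
  ∀ (R : Type u) [CommRing R] [IsLocalRing R] [ExpChar R p] (g : Spec (CommRingCat.of R) ⟶ X),
    g ≫ FX = Spec.map (CommRingCat.ofHom (iterateFrobenius R p e)) ≫ g

theorem PowFrob.comp {p e e' : ℕ} {X : Scheme.{u}} {FX FX' : X ⟶ X} (h : PowFrob p e FX)
    (h' : PowFrob p e' FX') : PowFrob p (e + e') (FX ≫ FX') := fun R _ _ _ g => by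
  rw [← Category.assoc, h R g, Category.assoc, h' R g, ← Spec.map_comp_assoc, ← CommRingCat.ofHom_comp]
  congr 3
  ext a
  simp [iterateFrobenius_def, ← pow_mul, ← pow_add, add_comm]

theorem PowFrob.id {p : ℕ} {X : Scheme.{u}} : PowFrob p 0 (𝟙 X) := fun R _ _ _ g => by
  rw [iterateFrobenius_zero]
  simp

theorem powFrob_of_appLE {p e : ℕ} {X : Scheme.{u}} (FX : X ⟶ X)
    (hle : ∀ U : X.Opens, U ≤ FX ⁻¹ᵁ U)
    (hFapp : ∀ (U : X.Opens) (s : Γ(X, U)), (FX.appLE U U (hle U)).hom s = s ^ (p ^ e)) :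
    PowFrob p e FX := fun R _ _ _ g => by
  obtain ⟨U, hU, hxU⟩ : ∃ U : X.Opens, IsAffineOpen U ∧ g (IsLocalRing.closedPoint R) ∈ U :=
    (TopologicalSpace.Opens.isBasis_iff_nbhd.1 X.isBasis_affineOpens (U := ⊤)
      (TopologicalSpace.Opens.mem_top (g (IsLocalRing.closedPoint R)))).imp fun _ h => ⟨h.1, h.2.1⟩
  have hrange : Set.range g ⊆ Set.range hU.fromSpec := by
    rintro _ ⟨z, rfl⟩
    rw [hU.range_fromSpec]
    exact ((IsLocalRing.specializes_closedPoint z).map g.continuous).mem_open U.isOpen hxU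
  obtain ⟨ψ, hψ⟩ := Spec.map_surjective (IsOpenImmersion.lift hU.fromSpec g hrange)
  have hg : Spec.map ψ ≫ hU.fromSpec = g := by rw [hψ, IsOpenImmersion.lift_fac]
  conv_lhs => rw [← hg, Category.assoc, ← IsAffineOpen.SpecMap_appLE_fromSpec FX hU hU (hle U), ← Spec.map_comp_assoc]
  conv_rhs => rw [← hg, ← Spec.map_comp_assoc]
  congr 2
  ext a
  simp [hFapp, iterateFrobenius_def, map_pow]

theorem exists_powFrob {k₀ : Type u} [Field k₀] [Finite k₀] {X : Scheme.{u}} (FX : X ⟶ X)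
    (hle : ∀ U : X.Opens, U ≤ FX ⁻¹ᵁ U)
    (hFapp : ∀ (U : X.Opens) (s : Γ(X, U)), (FX.appLE U U (hle U)).hom s = s ^ Nat.card k₀) :
    ∃ p e : ℕ, p.Prime ∧ CharP k₀ p ∧ 0 < e ∧ Nat.card k₀ = p ^ e ∧ PowFrob p e FX := by
  haveI := Fintype.ofFinite k₀
  obtain ⟨p, hp, n, hprime, hcard⟩ := FiniteField.card' k₀
  rw [← Nat.card_eq_fintype_card] at hcard
  exact ⟨p, n, hprime, hp, n.pos, hcard, powFrob_of_appLE FX hle (by simpa only [hcard] using hFapp)⟩

variable {k : Type u} [Field k] {X : Scheme.{u}} {Xb : WeilCoh.Var k} (π : Xb.obj.left ⟶ X)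

theorem exists_pow {p e : ℕ} {FX : X ⟶ X} (h : PowFrob p e FX) {F : Xb ⟶ Xb}
    (hF : WeilCoh.sm F ≫ π = π ≫ FX) : ∀ m : ℕ,
    ∃ FX' : X ⟶ X, PowFrob p (e * m) FX' ∧ WeilCoh.sm ((End.of F ^ m : End Xb) : Xb ⟶ Xb) ≫ π = π ≫ FX'
  | 0 => ⟨𝟙 X, PowFrob.id, by rw [pow_zero]; exact (Category.id_comp π).trans (Category.comp_id π).symm⟩
  | m + 1 => by
    obtain ⟨FX', h1, h2⟩ := exists_pow h hF m
    refine ⟨FX ≫ FX', ?_, ?_⟩
    · rw [show e * (m + 1) = e + e * m by ring]
      exact h.comp h1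
    · rw [pow_succ]
      show (WeilCoh.sm F ≫ WeilCoh.sm ((End.of F ^ m : End Xb) : Xb ⟶ Xb)) ≫ π = _
      rw [Category.assoc, h2, ← Category.assoc, hF, Category.assoc]

/-- a pair: `F` lifts a `p^e`-Frobenius, and `π` is the base change of `X` to `k` -/
structure FrobData (π : Xb.obj.left ⟶ X) (F : Xb ⟶ Xb) (p e : ℕ) : Prop where
  prime : p.Prime
  expChar : ExpChar k p
  pos : 0 < e
  pow : ∃ FX : X ⟶ X, PowFrob p e FX ∧ WeilCoh.sm F ≫ π = π ≫ FX
  hom_ext : ∀ {Z : Scheme.{u}} (a b : Z ⟶ Xb.obj.left), a ≫ π = b ≫ π → a ≫ Xb.obj.hom = b ≫ Xb.obj.hom → a = b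

variable {π} {F : Xb ⟶ Xb} {p e : ℕ}

/-- the structure map of a stalk -/
noncomputable def strHom (Xb : WeilCoh.Var k) (x : Xb.obj.left) :
    CommRingCat.of k ⟶ Xb.obj.left.presheaf.stalk x :=
  Spec.preimage (Xb.obj.left.fromSpecStalk x ≫ Xb.obj.hom)

theorem map_strHom (Xb : WeilCoh.Var k) (x : Xb.obj.left) :
    Spec.map (strHom Xb x) = Xb.obj.left.fromSpecStalk x ≫ Xb.obj.hom := Spec.map_preimage _

/-- the value at a closed point -/
noncomputable def evalHom [IsAlgClosed k] (Xb : WeilCoh.Var k) (x : Xb.obj.left)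
    (hx : IsClosed ({x} : Set Xb.obj.left)) : Xb.obj.left.presheaf.stalk x ⟶ CommRingCat.of k :=
  Xb.obj.left.residue x ≫ (residueFieldIsoBase Xb.obj.hom x hx).hom

theorem strHom_evalHom [IsAlgClosed k] (Xb : WeilCoh.Var k) (x : Xb.obj.left)
    (hx : IsClosed ({x} : Set Xb.obj.left)) : strHom Xb x ≫ evalHom Xb x hx = 𝟙 _ := by
  refine Spec.map_injective ?_
  rw [Spec.map_comp, map_strHom, Spec.map_id, evalHom, Spec.map_comp]
  simp only [Category.assoc]
  exact pointOfClosedPoint_comp Xb.obj.hom x hx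

theorem evalHom_eq_zero [IsAlgClosed k] (Xb : WeilCoh.Var k) (x : Xb.obj.left)
    (hx : IsClosed ({x} : Set Xb.obj.left)) (a : Xb.obj.left.presheaf.stalk x) :
    (evalHom Xb x hx).hom a = 0 ↔ a ∈ IsLocalRing.maximalIdeal (Xb.obj.left.presheaf.stalk x) := by
  rw [← IsLocalRing.residue_eq_zero_iff]
  exact map_eq_zero (residueFieldIsoBase Xb.obj.hom x hx).hom.hom

theorem fstHom_pow {k : Type u} [Field k] (p e : ℕ) [ExpChar k p] [ExpChar (DualNumber k) p] (hp : 1 < p)
    (he : 0 < e) (u : DualNumber k) :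
    iterateFrobenius (DualNumber k) p e u = TrivSqZeroExt.inl ((TrivSqZeroExt.fst u) ^ p ^ e) := by
  rw [iterateFrobenius_def]
  have hq : (((p ^ e : ℕ) : k)) = 0 := by
    cases ‹ExpChar k p› with
    | zero => omega
    | prime _ => rw [Nat.cast_pow, CharP.cast_eq_zero k p, zero_pow (by omega)]
  refine TrivSqZeroExt.ext ?_ ?_
  · simp
  · rw [TrivSqZeroExt.snd_pow]
    simp [← Nat.cast_smul_eq_nsmul k, hq]

theorem transversal [IsAlgClosed k] (hFr : FrobData π F p e) {Pb : WeilCoh.Var k} (pr₁ pr₂ : Pb ⟶ Xb)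
    (j d : Xb ⟶ Pb) (hjp : j ≫ pr₁ = 𝟙 Xb) (hjq : j ≫ pr₂ = F) (hdp : d ≫ pr₁ = 𝟙 Xb) (hdq : d ≫ pr₂ = 𝟙 Xb)
    (x : Xb.obj.left) (hx : IsClosed ({x} : Set Xb.obj.left))
    (h : WeilCoh.sm d x ∈ closure ({WeilCoh.sm j (genericPoint Xb.obj.left)} : Set Pb.obj.left)) :
    Ideal.map ((WeilCoh.sm d).stalkMap x).hom
        (RingHom.ker (Cyc.specMap (WeilCoh.sm d x) (WeilCoh.sm j (genericPoint Xb.obj.left))
          (specializes_iff_mem_closure.mpr h))) =
      IsLocalRing.maximalIdeal (Xb.obj.left.presheaf.stalk x) := by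
  obtain ⟨hprime, hek, hpos, ⟨FX, hFX, hF⟩, hext⟩ := hFr
  haveI := hek
  haveI : ExpChar (DualNumber k) p := expChar_of_injective_ringHom
    (f := (TrivSqZeroExt.inlHom k k : k →+* DualNumber k)) TrivSqZeroExt.inl_injective p
  haveI : IsSeparated Pb.obj.hom := inferInstance
  haveI : IsClosedImmersion (WeilCoh.sm j) := by
    haveI : IsClosedImmersion (WeilCoh.sm j ≫ WeilCoh.sm pr₁) := by rw [sm_comp_id hjp]; infer_instance
    haveI : IsSeparated (WeilCoh.sm pr₁) := by
      haveI : IsSeparated (WeilCoh.sm pr₁ ≫ Xb.obj.hom) := by rw [sm_w]; infer_instance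
      exact IsSeparated.of_comp (WeilCoh.sm pr₁) Xb.obj.hom
    exact IsClosedImmersion.of_comp _ (WeilCoh.sm pr₁)
  have hjd : WeilCoh.sm j x = WeilCoh.sm d x := by
    obtain ⟨y, hy⟩ : WeilCoh.sm d x ∈ Set.range (WeilCoh.sm j) :=
      closure_minimal (Set.singleton_subset_iff.2 (Set.mem_range_self _)) (WeilCoh.sm j).isClosedEmbedding.isClosed_range h
    have h1 := congrArg (WeilCoh.sm pr₁) hy
    rw [show WeilCoh.sm pr₁ (WeilCoh.sm j y) = y from congrArg (fun m : Xb.obj.left ⟶ _ => m.base y) (sm_comp_id hjp),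
      show WeilCoh.sm pr₁ (WeilCoh.sm d x) = x from congrArg (fun m : Xb.obj.left ⟶ _ => m.base x) (sm_comp_id hdp)] at h1
    exact h1 ▸ hy
  haveI : IsLocallyNoetherian Xb.obj.left := LocallyOfFiniteType.isLocallyNoetherian Xb.obj.hom
  set O := Xb.obj.left.presheaf.stalk x
  set J := Ideal.map ((WeilCoh.sm d).stalkMap x).hom
        (RingHom.ker (Cyc.specMap (WeilCoh.sm d x) (WeilCoh.sm j (genericPoint Xb.obj.left))
          (specializes_iff_mem_closure.mpr h))) with hJ
  have hJm : J ≤ IsLocalRing.maximalIdeal O := by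
    rw [hJ, Ideal.map_le_iff_le_comap]
    intro a ha
    have h1 : a ∈ IsLocalRing.maximalIdeal (Pb.obj.left.presheaf.stalk (WeilCoh.sm d x)) := fun hu =>
      (IsUnit.map _ hu).ne_zero (RingHom.mem_ker.1 ha)
    exact fun hu => h1 ((isUnit_map_iff ((WeilCoh.sm d).stalkMap x).hom a).1 hu)
  refine le_antisymm hJm (Submodule.le_of_le_smul_of_le_jacobson_bot (IsNoetherian.noetherian _)
    (IsLocalRing.jacobson_eq_maximalIdeal (R := O) ⊥ bot_ne_top).ge fun a ha => ?_)
  by_contra hna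
  letI : Algebra k O := (strHom Xb x).hom.toAlgebra
  let χ := (evalHom Xb x hx).hom
  have hχc : ∀ c : k, χ (algebraMap k O c) = c := fun c =>
    congrArg (fun m : CommRingCat.of k ⟶ CommRingCat.of k => m.hom c) (strHom_evalHom Xb x hx)
  let W : Submodule k O := (J ⊔ IsLocalRing.maximalIdeal O • IsLocalRing.maximalIdeal O).restrictScalars k ⊔
    Submodule.span k {1}
  have haW : a ∉ W := fun haW => hna <| by
    obtain ⟨b, hb, c', hc', hbc⟩ := Submodule.mem_sup.1 haW
    obtain ⟨c, rfl⟩ := Submodule.mem_span_singleton.1 hc'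
    have hb' : b ∈ IsLocalRing.maximalIdeal O := sup_le hJm Submodule.smul_le_right hb
    have h0 : χ (algebraMap k O c) = 0 := (evalHom_eq_zero Xb x hx _).2 (by
      rw [← mul_one (algebraMap k O c), ← Algebra.smul_def, show c • (1 : O) = a - b by rw [← hbc]; ring]
      exact sub_mem ha hb')
    rw [hχc] at h0
    rw [← hbc, h0, zero_smul, add_zero]
    exact hb
  obtain ⟨ℓ, hℓa, hℓW⟩ := Submodule.exists_dual_map_eq_bot_of_notMem haW inferInstance
  have hℓW' : ∀ w ∈ W, ℓ w = 0 := fun w hw =>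
    (Submodule.mem_bot k).1 (hℓW ▸ Submodule.mem_map_of_mem hw)
  have hℓc : ∀ c : k, ℓ (algebraMap k O c) = 0 := fun c => hℓW' _ (Submodule.mem_sup_right
    (Submodule.mem_span_singleton.2 ⟨c, (Algebra.algebraMap_eq_smul_one c).symm⟩))
  let t : O →+* DualNumber k :=
  { toFun := fun b => TrivSqZeroExt.inl (χ b) + TrivSqZeroExt.inr (ℓ b)
    map_one' := by
      rw [map_one, ← map_one (algebraMap k O), hℓc]
      simp
    map_zero' := by simp
    map_add' := fun b c => by refine TrivSqZeroExt.ext ?_ ?_ <;> simp [map_add]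
    map_mul' := fun b c => by
      refine TrivSqZeroExt.ext (by simp [map_mul]) ?_
      have hm : ∀ b : O, b - algebraMap k O (χ b) ∈ IsLocalRing.maximalIdeal O := fun b =>
        (evalHom_eq_zero Xb x hx _).1 (by rw [map_sub]; exact sub_eq_zero.2 (hχc _).symm)
      have h2 : ℓ ((b - algebraMap k O (χ b)) * (c - algebraMap k O (χ c))) = 0 :=
        hℓW' _ (Submodule.mem_sup_left (Submodule.mem_sup_right (Submodule.smul_mem_smul (hm b) (hm c))))
      rw [show (b - algebraMap k O (χ b)) * (c - algebraMap k O (χ c)) =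
          b * c - χ c • b - χ b • c + algebraMap k O (χ b * χ c) by
        simp only [Algebra.smul_def, map_mul]; ring,
        map_add, map_sub, map_sub, map_smul, map_smul, hℓc, add_zero, smul_eq_mul, smul_eq_mul] at h2
      simp [map_mul]
      linear_combination h2 }
  have htJ : ∀ b ∈ J, t b = 0 := fun b hb => by
    refine TrivSqZeroExt.ext ?_ ?_
    · simp only [t]; simp [χ, (evalHom_eq_zero Xb x hx b).2 (hJm hb)]
    · simp only [t]; simp [hℓW' b (Submodule.mem_sup_left (Submodule.mem_sup_left hb))]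
  -- the tangent vector factors through the graph
  let sp := Pb.obj.left.presheaf.stalkSpecializes (specializes_of_eq hjd.symm)
  let R := CommRingCat.of (DualNumber k)
  let tc : O ⟶ R := CommRingCat.ofHom t
  let T : Spec R ⟶ Xb.obj.left := Spec.map tc ≫ Xb.obj.left.fromSpecStalk x
  let td : Pb.obj.left.presheaf.stalk (WeilCoh.sm j x) ⟶ R :=
    Pb.obj.left.presheaf.stalkSpecializes (specializes_of_eq hjd.symm) ≫ (WeilCoh.sm d).stalkMap x ≫ tc
  have htd : RingHom.ker ((WeilCoh.sm j).stalkMap x).hom ≤ RingHom.ker td.hom := fun b hb => by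
    refine htJ _ (Ideal.mem_map_of_mem _ (RingHom.mem_ker.2 ?_))
    have hs : genericPoint Xb.obj.left ⤳ x := (genericPoint_spec _).specializes trivial
    have h1 := ConcreteCategory.congr_hom ((WeilCoh.sm j).stalkSpecializes_stalkMap _ _ hs) b
    simp only [CommRingCat.hom_comp, RingHom.comp_apply] at h1
    rw [RingHom.mem_ker.1 hb, map_zero] at h1
    have h2 : Pb.obj.left.residue (WeilCoh.sm j (genericPoint Xb.obj.left))
        (Pb.obj.left.presheaf.stalkSpecializes (hs.map (WeilCoh.sm j).continuous) b) = 0 := by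
      refine (IsLocalRing.residue_eq_zero_iff _).2 fun hu => ?_
      exact not_isUnit_zero (h1 ▸ IsUnit.map ((WeilCoh.sm j).stalkMap (genericPoint Xb.obj.left)).hom hu)
    show (Pb.obj.left.residue _).hom ((Pb.obj.left.presheaf.stalkSpecializes _).hom
      ((Pb.obj.left.presheaf.stalkSpecializes _).hom b)) = 0
    have h3 := ConcreteCategory.congr_hom (TopCat.Presheaf.stalkSpecializes_comp Pb.obj.left.presheaf
      (specializes_iff_mem_closure.mpr h) (specializes_of_eq hjd.symm)) b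
    exact (congrArg (Pb.obj.left.residue _).hom h3).trans h2
  obtain ⟨t', ht'⟩ : ∃ t' : O ⟶ R, (WeilCoh.sm j).stalkMap x ≫ t' = td :=
    ⟨CommRingCat.ofHom (RingHom.liftOfSurjective _ ((WeilCoh.sm j).stalkMap_surjective x) ⟨td.hom, htd⟩),
      CommRingCat.hom_ext (RingHom.liftOfRightInverse_comp _ _ _ _)⟩
  let T' : Spec R ⟶ Xb.obj.left := Spec.map t' ≫ Xb.obj.left.fromSpecStalk x
  have hTd : T ≫ WeilCoh.sm d = T' ≫ WeilCoh.sm j := by
    simp only [T, T', Category.assoc, ← Scheme.SpecMap_stalkMap_fromSpecStalk]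
    rw [← Spec.map_comp_assoc, ← Spec.map_comp_assoc, ht']
    simp only [td, Spec.map_comp, Category.assoc]
    rw [Scheme.SpecMap_stalkSpecializes_fromSpecStalk]
  have hT' : T' = T := by
    have := congrArg (· ≫ WeilCoh.sm pr₁) hTd
    simpa [sm_comp_id hjp, sm_comp_id hdp] using this.symm
  have hTF : T ≫ WeilCoh.sm F = T := by
    have := congrArg (· ≫ WeilCoh.sm pr₂) hTd
    simp only [Category.assoc, sm_comp_id hdq, Category.comp_id] at this
    rw [hT', show WeilCoh.sm j ≫ WeilCoh.sm pr₂ = WeilCoh.sm F from congrArg (fun g : Xb ⟶ Xb => g.hom.left) hjq] at this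
    exact this.symm
  -- compare with the constant tangent vector
  let inl : CommRingCat.of k ⟶ R := CommRingCat.ofHom (TrivSqZeroExt.inlHom k k)
  let fst : R ⟶ CommRingCat.of k := CommRingCat.ofHom (TrivSqZeroExt.fstHom k k k).toRingHom
  let T₀ : Spec R ⟶ Xb.obj.left := Spec.map (evalHom Xb x hx ≫ inl) ≫ Xb.obj.left.fromSpecStalk x
  have htf : ∀ b, TrivSqZeroExt.fst (t b) = χ b := fun b => by simp [t]
  have hfst : tc ≫ fst = evalHom Xb x hx := CommRingCat.hom_ext (RingHom.ext htf)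
  have hT₀F : T₀ ≫ WeilCoh.sm F = T₀ := by
    have h1 := congrArg (Spec.map fst ≫ ·) hTF
    simp only [T, ← Spec.map_comp_assoc, Category.assoc, hfst] at h1
    simp only [T₀, Spec.map_comp, Category.assoc, h1]
  have hTT₀ : T ≫ WeilCoh.sm F = T₀ ≫ WeilCoh.sm F := by
    refine hext _ _ ?_ ?_
    · simp only [Category.assoc, hF]
      rw [← Category.assoc T π, ← Category.assoc T₀ π, hFX _ (T ≫ π), hFX _ (T₀ ≫ π)]
      simp only [T, T₀, Category.assoc, ← Spec.map_comp_assoc]
      congr 2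
      refine CommRingCat.hom_ext (RingHom.ext fun b => ?_)
      show iterateFrobenius (DualNumber k) p e (t b) = iterateFrobenius (DualNumber k) p e (TrivSqZeroExt.inl (χ b))
      rw [fstHom_pow p e hprime.one_lt hpos, fstHom_pow p e hprime.one_lt hpos, htf, TrivSqZeroExt.fst_inl]
    · simp only [Category.assoc, sm_w F]
      simp only [T, T₀, Category.assoc, ← map_strHom, ← Spec.map_comp]
      congr 1
      refine CommRingCat.hom_ext (RingHom.ext fun c => ?_)
      show t (algebraMap k O c) = TrivSqZeroExt.inl (χ (algebraMap k O c))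
      simp [t, hℓc]
  rw [hTF, hT₀F] at hTT₀
  have htt : tc = evalHom Xb x hx ≫ inl :=
    Spec.map_injective ((cancel_mono (Xb.obj.left.fromSpecStalk x)).1 hTT₀)
  have := congrArg (fun m : O ⟶ R => TrivSqZeroExt.snd (m.hom a)) htt
  have h' : TrivSqZeroExt.snd (t a) = TrivSqZeroExt.snd (TrivSqZeroExt.inl (χ a) : DualNumber k) := this
  exact hℓa (by simpa [t] using h')

end Groth.Agent.WeilCohLib
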