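import Groth.Prelude.Def_WeilCoh
import Groth.Agent.DimTheory.Scheme
import Groth.Agent.SmoothReduced.Basic
import Groth.Agent.ProjFinite.Finite
import Groth.Agent.ProjCoord.Extra
import Mathlib.AlgebraicGeometry.AlgClosed.Basic
import Mathlib.RingTheory.AlgebraicIndependent.TranscendenceBasis

/-!
# Geometry of the objects of `WeilCoh.Var k`
-/

set_option autoImplicit false
set_option backward.isDefEq.respectTransparency.types false
set_option linter.style.haveILetI false

universe u

open CategoryTheory AlgebraicGeometry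

namespace Groth.Agent.WeilCohLib

variable {k : Type u} [Field k]

instance smooth_hom (X : WeilCoh.Var k) : Smooth X.obj.hom := X.property.1

instance irreducibleSpace (X : WeilCoh.Var k) : IrreducibleSpace ↥X.obj.left := X.property.2.2

instance isReduced (X : WeilCoh.Var k) : IsReduced X.obj.left :=
  SmoothReduced.isReduced_of_smooth_scheme X.obj.hom

instance isIntegral (X : WeilCoh.Var k) : IsIntegral X.obj.left :=
  isIntegral_of_irreducibleSpace_of_isReduced _

instance locallyOfFiniteType_hom (X : WeilCoh.Var k) : LocallyOfFiniteType X.obj.hom := inferInstance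

instance isProper_hom (X : WeilCoh.Var k) : IsProper X.obj.hom := by
  obtain ⟨n, i, hi, h⟩ := X.property.2.1
  rw [← h]
  haveI : IsProper (CohB1.ProjSpace.toSpec n (ULift.{u} ℤ)) := ProjCoord.isProper_baseMap (n := n) (R := ULift.{u} ℤ)
  haveI : IsProper (CohB1.ProjSpaceOver.toBase n (Spec (CommRingCat.of k))) := by
    delta CohB1.ProjSpaceOver.toBase CohB1.ProjSpaceOver
    infer_instance
  infer_instance

theorem pdim_eq_height (X : Scheme.{u}) (x : X) : WeilCoh.pdim X x = (Order.height x).toNat := by
  unfold WeilCoh.pdim WeilCoh.natDim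
  rw [DimTheory.topologicalKrullDim_closure]
  rfl

theorem resTrdeg_eq_pdim {X : Scheme.{u}} (f : X ⟶ Spec (CommRingCat.of k)) [LocallyOfFiniteType f]
    (x : X) : DimTheory.resTrdeg f x = WeilCoh.pdim X x := by
  obtain ⟨n, h1, h2⟩ := DimTheory.exists_height_eq f x
  rw [pdim_eq_height, h2, h1]
  rfl

theorem pdim_genericPoint (X : Scheme.{u}) [IrreducibleSpace X] :
    WeilCoh.pdim X (genericPoint X) = WeilCoh.dim X := by
  unfold WeilCoh.dim WeilCoh.natDim
  rw [pdim_eq_height, DimTheory.topologicalKrullDim_eq_height_genericPoint]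
  rfl

theorem pdim_le_dim (X : WeilCoh.Var k) (x : X.obj.left) :
    WeilCoh.pdim X.obj.left x ≤ WeilCoh.dim X.obj.left := by
  rw [← pdim_genericPoint, pdim_eq_height, pdim_eq_height]
  refine ENat.toNat_le_toNat (Order.height_mono ?_)
    (DimTheory.height_lt_top X.obj.hom _).ne
  exact (genericPoint_spec X.obj.left).specializes trivial

theorem pdim_eq_zero_of_isClosed {X : Scheme.{u}} {x : X} (hx : IsClosed ({x} : Set X)) :
    WeilCoh.pdim X x = 0 := by
  rw [pdim_eq_height, Order.height_eq_zero.2]
  · rfl
  · intro y hy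
    have : y ∈ closure ({x} : Set X) := specializes_iff_mem_closure.1 hy
    rw [hx.closure_eq, Set.mem_singleton_iff] at this
    exact this.ge

theorem codim_genericPoint (X : WeilCoh.Var k) :
    WeilCoh.codim X.obj.left (genericPoint X.obj.left) = 0 := by
  unfold WeilCoh.codim
  rw [pdim_genericPoint, Nat.sub_self]

theorem two_codim (X : WeilCoh.Var k) (x : X.obj.left) :
    2 * (WeilCoh.codim X.obj.left x : ℤ) =
      2 * (WeilCoh.dim X.obj.left : ℤ) - 2 * (WeilCoh.pdim X.obj.left x : ℤ) := by
  unfold WeilCoh.codim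
  have := pdim_le_dim X x
  omega

theorem residueDegree_of_isClosed [IsAlgClosed k] {X : Scheme.{u}} (f : X ⟶ Spec (CommRingCat.of k))
    [LocallyOfFiniteType f] {x : X} (hx : IsClosed ({x} : Set X)) : f.residueDegree x = 1 := by
  have hfin : (f.residueFieldMap x).hom.Finite := by
    haveI : IsFinite (X.fromSpecResidueField x ≫ f) := by
      rw [isClosed_singleton_iff_isClosedImmersion] at hx
      rw [isFinite_iff_locallyOfFiniteType_of_jacobsonSpace]
      infer_instance
    have h : IsFinite (Spec.map (f.residueFieldMap x) ≫ (Spec (CommRingCat.of k)).fromSpecResidueField (f x)) := by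
      rw [Scheme.Hom.SpecMap_residueFieldMap_fromSpecResidueField]
      infer_instance
    haveI := h
    have : IsFinite (Spec.map (f.residueFieldMap x)) :=
      IsFinite.of_comp _ ((Spec (CommRingCat.of k)).fromSpecResidueField (f x))
    rwa [IsFinite.SpecMap_iff] at this
  let e : k →+* (Spec (CommRingCat.of k)).residueField (f x) :=
    (((Spec (CommRingCat.of k)).residue (f x)).hom.comp
      (((Spec (CommRingCat.of k)).presheaf.germ ⊤ (f x) trivial).hom.comp
        (Scheme.ΓSpecIso (CommRingCat.of k)).inv.hom))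
  have he : Function.Surjective e := by
    intro z
    obtain ⟨a, b, rfl⟩ := DimTheory.exists_eq_div (isAffineOpen_top (Spec (CommRingCat.of k))) (x := f x) trivial z
    refine ⟨(Scheme.ΓSpecIso (CommRingCat.of k)).hom a / (Scheme.ΓSpecIso (CommRingCat.of k)).hom b, ?_⟩
    rw [map_div₀]
    simp [e]
  haveI : IsAlgClosed ((Spec (CommRingCat.of k)).residueField (f x)) :=
    IsAlgClosed.of_ringEquiv k _ (RingEquiv.ofBijective e ⟨e.injective, he⟩)
  unfold Scheme.Hom.residueDegree
  letI := (f.residueFieldMap x).hom.toAlgebra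
  haveI : Module.Finite ((Spec (CommRingCat.of k)).residueField (f x)) (X.residueField x) := hfin
  exact Module.finrank_of_bijective_algebraMap
    (IsAlgClosed.algebraMap_bijective_of_isIntegral)

/-- the point `Spec k` as an object of `Var k` -/
noncomputable def pt (k : Type u) [Field k] : WeilCoh.Var k where
  obj := Over.mk (𝟙 (Spec (CommRingCat.of k)))
  property := by
    refine ⟨by dsimp; infer_instance, ?_, ?_⟩
    · haveI : IsIso (CohB1.ProjSpace.toSpec 0 (ULift.{u} ℤ)) :=
        ProjCoord.isIso_baseMap_zero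
      haveI : IsIso (CohB1.ProjSpaceOver.toBase 0 (Spec (CommRingCat.of k))) := by
        delta CohB1.ProjSpaceOver.toBase CohB1.ProjSpaceOver
        infer_instance
      exact ⟨0, inv (CohB1.ProjSpaceOver.toBase 0 (Spec (CommRingCat.of k))), inferInstance,
        IsIso.inv_hom_id _⟩
    · show IrreducibleSpace (PrimeSpectrum k)
      infer_instance

theorem dim_pt (k : Type u) [Field k] : WeilCoh.dim (pt k).obj.left = 0 := by
  unfold WeilCoh.dim WeilCoh.natDim
  show ((topologicalKrullDim (PrimeSpectrum k)).unbotD 0).toNat = 0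
  rw [PrimeSpectrum.topologicalKrullDim_eq_ringKrullDim, ringKrullDim_eq_zero_of_field]
  rfl

/-- the structure morphism as a morphism of `Var k` -/
noncomputable def toPt (X : WeilCoh.Var k) : X ⟶ pt k := ObjectProperty.homMk (Over.homMk X.obj.hom)

theorem sm_w {X Y : WeilCoh.Var k} (f : X ⟶ Y) : WeilCoh.sm f ≫ Y.obj.hom = X.obj.hom := Over.w f.hom

instance locallyOfFiniteType_sm {X Y : WeilCoh.Var k} (f : X ⟶ Y) : LocallyOfFiniteType (WeilCoh.sm f) := by
  haveI : LocallyOfFiniteType (WeilCoh.sm f ≫ Y.obj.hom) := by rw [sm_w]; infer_instance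
  exact locallyOfFiniteType_of_comp _ Y.obj.hom

theorem trdeg_eq_of_residueDegree_ne_zero {X Y : Scheme.{u}} (f : X ⟶ Y) (g : Y ⟶ Spec (CommRingCat.of k))
    (x : X) (h : f.residueDegree x ≠ 0) :
    DimTheory.resTrdeg (f ≫ g) x = DimTheory.resTrdeg g (f x) := by
  unfold Scheme.Hom.residueDegree at h
  letI := (f.residueFieldMap x).hom.toAlgebra
  haveI : Module.Finite (Y.residueField (f x)) (X.residueField x) :=
    Module.finite_of_finrank_pos (Nat.pos_of_ne_zero h)
  letI : Algebra k (Y.residueField (f x)) := (DimTheory.resHom g (f x)).toAlgebra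
  letI : Algebra k (X.residueField x) := (DimTheory.resHom (f ≫ g) x).toAlgebra
  haveI : IsScalarTower k (Y.residueField (f x)) (X.residueField x) := IsScalarTower.of_algebraMap_eq fun c => by
    show DimTheory.resHom (f ≫ g) x c = (f.residueFieldMap x).hom (DimTheory.resHom g (f x) c)
    simp only [DimTheory.resHom, RingHom.comp_apply, Scheme.Hom.comp_appTop, CommRingCat.hom_comp]
    exact (Scheme.Γevaluation_naturality_apply f x _).symm
  show Algebra.trdeg k (X.residueField x) = Algebra.trdeg k (Y.residueField (f x))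
  rw [← trdeg_add_eq k (Y.residueField (f x)) (A := X.residueField x), trdeg_eq_zero (R := Y.residueField (f x)) (A := X.residueField x), add_zero]

theorem pdim_eq_of_residueDegree_ne_zero {X Y : WeilCoh.Var k} (f : X ⟶ Y) (x : X.obj.left)
    (h : (WeilCoh.sm f).residueDegree x ≠ 0) :
    WeilCoh.pdim Y.obj.left (WeilCoh.sm f x) = WeilCoh.pdim X.obj.left x := by
  have h1 := trdeg_eq_of_residueDegree_ne_zero (WeilCoh.sm f) Y.obj.hom x h
  rw [resTrdeg_eq_pdim, resTrdeg_eq_pdim, Nat.cast_inj] at h1
  exact h1.symm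

end Groth.Agent.WeilCohLib
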