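import Groth.Agent.WeilCohLib.Formal

/-!
# Sections, graphs and classes of cycles
-/

set_option autoImplicit false
set_option backward.isDefEq.respectTransparency.types false
set_option linter.style.haveILetI false

universe u v w

open CategoryTheory AlgebraicGeometry

namespace Groth.Agent.WeilCohLib

variable {k : Type u} [Field k] {K : Type v} [Field K]
variable {T : WeilCoh.TheoryOn.{u, v, w} k (WeilCoh.IsVar k) K}

theorem residueDegree_section {A B : Scheme.{u}} (j : A ⟶ B) (p : B ⟶ A) (h : j ≫ p = 𝟙 A) (x : A) :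
    j.residueDegree x = 1 := by
  have hs : Function.Surjective (j.residueFieldMap x).hom := fun z => by
    have h1 := Scheme.residueFieldMap_comp j p x
    have h2 : Function.Surjective (Scheme.Hom.residueFieldMap (j ≫ p) x).hom := by
      rw [h, Scheme.residueFieldMap_id]
      exact fun y => ⟨y, rfl⟩
    obtain ⟨y, hy⟩ := h2 z
    rw [h1] at hy
    exact ⟨_, hy⟩
  unfold Scheme.Hom.residueDegree
  letI := (j.residueFieldMap x).hom.toAlgebra
  exact Module.finrank_of_bijective_algebraMap ⟨(j.residueFieldMap x).hom.injective, hs⟩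

theorem sm_comp_id {X P : WeilCoh.Var k} {j : X ⟶ P} {p : P ⟶ X} (h : j ≫ p = 𝟙 X) :
    WeilCoh.sm j ≫ WeilCoh.sm p = 𝟙 X.obj.left :=
  congrArg (fun f : X ⟶ X => f.hom.left) h

theorem pdim_section {X P : WeilCoh.Var k} {j : X ⟶ P} {p : P ⟶ X} (h : j ≫ p = 𝟙 X) (x : X.obj.left) :
    WeilCoh.pdim P.obj.left (WeilCoh.sm j x) = WeilCoh.pdim X.obj.left x :=
  pdim_eq_of_residueDegree_ne_zero j x (by rw [residueDegree_section _ _ (sm_comp_id h)]; exact one_ne_zero)

theorem pull_pull_id {X P : WeilCoh.Var k} {j : X ⟶ P} {p : P ⟶ X} (h : j ≫ p = 𝟙 X) (a : T.H X) :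
    T.pull j (T.pull p a) = a := by
  have := AlgHom.congr_fun (T.pull_comp j p) a
  rw [h, T.pull_id] at this
  exact this.symm

theorem pull_pull {X Y Z : WeilCoh.Var k} {j : X ⟶ Y} {p : Y ⟶ Z} {f : X ⟶ Z} (h : j ≫ p = f) (a : T.H Z) :
    T.pull j (T.pull p a) = T.pull f a := by
  subst h
  exact (AlgHom.congr_fun (T.pull_comp j p) a).symm

theorem cl_section_mul {X P : WeilCoh.Var k} {j : X ⟶ P} {p : P ⟶ X} (h : j ≫ p = 𝟙 X) (x : X.obj.left)
    {a : T.H P} (ha : a ∈ T.gr P (2 * (WeilCoh.pdim X.obj.left x : ℤ))) :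
    T.tr P (T.cl P (WeilCoh.sm j x) * a) = T.tr X (T.cl X x * T.pull j a) := by
  rw [T.cl_push j x a ha, residueDegree_section _ _ (sm_comp_id h), Nat.cast_one, one_mul]

theorem cl_graph_mul {X P : WeilCoh.Var k} {j : X ⟶ P} {p : P ⟶ X} (h : j ≫ p = 𝟙 X)
    {a : T.H P} (ha : a ∈ T.gr P (dd X)) :
    T.tr P (T.cl P (WeilCoh.sm j (genericPoint X.obj.left)) * a) = T.tr X (T.pull j a) := by
  rw [cl_section_mul h _ (by rw [pdim_genericPoint]; exact ha), cl_genericPoint, one_mul]

theorem graph_codim {X P : WeilCoh.Var k} {j : X ⟶ P} {p : P ⟶ X} (h : j ≫ p = 𝟙 X) :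
    2 * (WeilCoh.codim P.obj.left (WeilCoh.sm j (genericPoint X.obj.left)) : ℤ) = dd P - dd X := by
  rw [two_codim, pdim_section h, pdim_genericPoint]

theorem pull_eq_push_graph {X Y P : WeilCoh.Var k} (f : X ⟶ Y) (p : P ⟶ X) (q : P ⟶ Y)
    (j : X ⟶ P) (hjp : j ≫ p = 𝟙 X) (hjq : j ≫ q = f) (i : ℤ) (β : T.gr Y i)
    (h : T.cl P (WeilCoh.sm j (genericPoint X.obj.left)) * T.pull q β ∈
      T.gr P (2 * (WeilCoh.codim P.obj.left (WeilCoh.sm j (genericPoint X.obj.left)) : ℤ) + i)) :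
    (T.push p _ ⟨_, h⟩ : T.H X) = T.pull f β := by
  have hc := graph_codim hjp
  refine push_eq p _ _ ?_ fun b hb => ?_
  · convert T.pull_mem f i β β.2 using 2
    omega
  · have hmem : T.pull q (β : T.H Y) * T.pull p b ∈ T.gr P (dd X) := by
      convert SetLike.mul_mem_graded (T.pull_mem q i β β.2) (T.pull_mem p _ b hb) using 2
      omega
    rw [mul_assoc, cl_graph_mul hjp hmem, map_mul (T.pull j), pull_pull hjq, pull_pull_id hjp]

theorem push_pull_mul_cl_diagonal {X P : WeilCoh.Var k} (p q : P ⟶ X) (d : X ⟶ P) (hdp : d ≫ p = 𝟙 X)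
    (hdq : d ≫ q = 𝟙 X) (η : X.obj.left) (i : ℤ) (a : T.gr X i)
    (h : T.pull p a * T.cl P (WeilCoh.sm d η) ∈
      T.gr P (i + 2 * (WeilCoh.codim P.obj.left (WeilCoh.sm d η) : ℤ))) :
    (T.push q _ ⟨_, h⟩ : T.H X) = a * T.cl X η := by
  have hc := two_codim P (WeilCoh.sm d η)
  rw [pdim_section hdp] at hc
  refine push_eq q _ _ ?_ fun b hb => ?_
  · convert SetLike.mul_mem_graded a.2 (T.cl_mem X η) using 2
    have := two_codim X η
    simp only [dd] at *
    omega
  · have hmem : T.pull p (a : T.H X) * T.pull q b ∈ T.gr P (2 * (WeilCoh.pdim X.obj.left η : ℤ)) := by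
      convert SetLike.mul_mem_graded (T.pull_mem p i a a.2) (T.pull_mem q _ b hb) using 2
      simp only [dd] at *
      omega
    show T.tr P (T.pull p (a : T.H X) * T.cl P (WeilCoh.sm d η) * T.pull q b) = _
    rw [comm_of_even (T.pull_mem p i a a.2) (T.cl_mem P _) (Or.inr (even_two_mul _)), mul_assoc,
      cl_section_mul hdp η hmem, map_mul (T.pull d), pull_pull_id hdp, pull_pull_id hdq, ← mul_assoc,
      comm_of_even (T.cl_mem X η) a.2 (Or.inl (even_two_mul _))]

theorem tr_cl_mul {X Y : WeilCoh.Var k} (f : X ⟶ Y) (ξ : X.obj.left) (b : T.H Y) :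
    T.tr X (T.cl X ξ * T.pull f b) =
      ((WeilCoh.sm f).residueDegree ξ : K) * T.tr Y (T.cl Y (WeilCoh.sm f ξ) * b) := by
  classical
  suffices hs : ∀ b : T.H Y, b ∈ ⨆ i, T.gr Y i → T.tr X (T.cl X ξ * T.pull f b) =
      ((WeilCoh.sm f).residueDegree ξ : K) * T.tr Y (T.cl Y (WeilCoh.sm f ξ) * b) from
    hs b (by rw [(T.decomp Y).submodule_iSup_eq_top]; trivial)
  intro b hb
  induction hb using Submodule.iSup_induction' with
  | zero => simp
  | add x y _ _ hx hy => simp [map_add, mul_add, hx, hy]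
  | mem i x hx =>
    by_cases hi : i = 2 * (WeilCoh.pdim X.obj.left ξ : ℤ)
    · exact T.cl_push f ξ x (hi ▸ hx)
    · rw [T.tr_vanish X _ _ (SetLike.mul_mem_graded (cl_mem' X ξ) (T.pull_mem f i x hx)) (by simp only [dd]; omega)]
      by_cases hd : (WeilCoh.sm f).residueDegree ξ = 0
      · simp [hd]
      · rw [T.tr_vanish Y _ _ (SetLike.mul_mem_graded (cl_mem' Y _) hx)
          (by rw [pdim_eq_of_residueDegree_ne_zero f ξ hd]; simp only [dd]; omega), mul_zero]

theorem delta_eq_pdim {X : WeilCoh.Var k} {δ : X.obj.left → ℤ}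
    (hδ : Cyc.DeltaCompat X.obj.hom δ (fun _ => 0)) (x : X.obj.left) :
    δ x = WeilCoh.pdim X.obj.left x := by
  obtain ⟨n, hn, hn'⟩ := hδ x
  rw [hn', zero_add]
  have h1 := resTrdeg_eq_pdim X.obj.hom x
  letI := (X.obj.hom.residueFieldMap x).hom.toAlgebra
  letI : Algebra k ((Spec (CommRingCat.of k)).residueField (X.obj.hom x)) :=
    (DimTheory.resHom (𝟙 _) (X.obj.hom x)).toAlgebra
  letI : Algebra k (X.obj.left.residueField x) := (DimTheory.resHom X.obj.hom x).toAlgebra
  haveI : IsScalarTower k ((Spec (CommRingCat.of k)).residueField (X.obj.hom x)) (X.obj.left.residueField x) :=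
    IsScalarTower.of_algebraMap_eq fun c => by
      show DimTheory.resHom X.obj.hom x c =
        (X.obj.hom.residueFieldMap x).hom (DimTheory.resHom (𝟙 _) (X.obj.hom x) c)
      simp only [DimTheory.resHom, RingHom.comp_apply]
      exact (Scheme.Γevaluation_naturality_apply X.obj.hom x _).symm
  haveI : Algebra.IsAlgebraic k ((Spec (CommRingCat.of k)).residueField (X.obj.hom x)) := by
    refine trdeg_eq_zero_iff.1 ?_
    have h0 : DimTheory.resTrdeg (𝟙 (Spec (CommRingCat.of k))) (X.obj.hom x) = (0 : ℕ) := by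
      rw [resTrdeg_eq_pdim, pdim_eq_zero_of_isClosed]
      exact isClosed_singleton
    simpa [DimTheory.resTrdeg] using h0
  have h2 := trdeg_add_eq k ((Spec (CommRingCat.of k)).residueField (X.obj.hom x))
    (A := X.obj.left.residueField x)
  rw [trdeg_eq_zero, zero_add] at h2
  exact_mod_cast (hn.symm.trans (h2.trans h1) : (n : Cardinal) = _)

theorem clCyc_eq_sum {X : WeilCoh.Var k} (α : AlgebraicCycle X.obj.left ℤ) (s : Finset X.obj.left)
    (hs : ∀ x, α x ≠ 0 → x ∈ s) :
    T.clCyc X α = ∑ ξ ∈ s, ((α ξ : ℤ) : K) • T.cl X ξ :=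
  finsum_eq_sum_of_support_subset _ fun x hx => hs x fun h => hx (by simp [h])

theorem support_finite {X : WeilCoh.Var k} (α : AlgebraicCycle X.obj.left ℤ) :
    {x | α x ≠ 0}.Finite := by
  haveI : CompactSpace X.obj.left := QuasiCompact.compactSpace_of_compactSpace X.obj.hom
  have := (Function.locallyFinsupp.locallyFiniteSupport α).finite_inter_support_of_isCompact isCompact_univ
  rwa [Set.univ_inter] at this

end Groth.Agent.WeilCohLib
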